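import Mathlib

/-! Polynomials whose complex roots have absolute value `√q`. -/

set_option autoImplicit false

open Polynomial

namespace Groth.Agent.WeilNum84

/-- The reciprocal polynomial of weight `q`. -/
noncomputable def recip (q : ℤ) (P : ℤ[X]) : ℤ[X] :=
  ∑ j ∈ Finset.range (P.natDegree + 1), monomial (P.natDegree - j) (P.coeff j * q ^ j)

theorem coeff_recip (q : ℤ) (P : ℤ[X]) {j : ℕ} (hj : j ≤ P.natDegree) :
    (recip q P).coeff (P.natDegree - j) = P.coeff j * q ^ j := by
  rw [recip, finsetSum_coeff, Finset.sum_eq_single j, coeff_monomial, if_pos rfl]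
  · intro b hb hne
    rw [Finset.mem_range] at hb
    rw [coeff_monomial, if_neg (by omega)]
  · intro h; rw [Finset.mem_range] at h; omega

theorem natDegree_recip_le (q : ℤ) (P : ℤ[X]) : (recip q P).natDegree ≤ P.natDegree :=
  natDegree_sum_le_of_forall_le _ _ fun j _ => (natDegree_monomial_le _).trans (Nat.sub_le _ _)

theorem aeval_recip {K : Type*} [Field K] (q : ℤ) (P : ℤ[X]) {z : K} (hz : z ≠ 0) :
    aeval z (recip q P) = z ^ P.natDegree * aeval ((q : K) / z) P := by
  rw [recip, map_sum, aeval_eq_sum_range, Finset.mul_sum]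
  refine Finset.sum_congr rfl fun j hj => ?_
  rw [Finset.mem_range] at hj
  rw [aeval_monomial, zsmul_eq_mul, map_mul, map_pow, algebraMap_int_eq, eq_intCast, eq_intCast,
    show z ^ P.natDegree = z ^ (P.natDegree - j) * z ^ j by
      rw [← pow_add]; congr 1; omega, div_pow]
  field_simp

/-- `P` monic with all complex roots of absolute value `√q`. -/
structure IsWeil (q : ℤ) (P : ℤ[X]) : Prop where
  monic : P.Monic
  pos : 0 < q
  norm_sq : ∀ z ∈ P.aroots ℂ, ‖z‖ ^ 2 = (q : ℝ)

namespace IsWeil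

variable {q : ℤ} {P : ℤ[X]} (h : IsWeil q P)

include h

theorem ne_zero {z : ℂ} (hz : z ∈ P.aroots ℂ) : z ≠ 0 := fun h0 => by
  have := h.norm_sq z hz
  rw [h0, norm_zero, zero_pow two_ne_zero] at this
  exact (Int.cast_pos.2 h.pos : (0 : ℝ) < q).ne this

theorem card_aroots : Multiset.card (P.aroots ℂ) = P.natDegree := by
  rw [aroots_def, ← (IsAlgClosed.splits _).natDegree_eq_card_roots, h.monic.natDegree_map]

theorem div_eq_conj {z : ℂ} (hz : z ∈ P.aroots ℂ) : (q : ℂ) / z = (starRingEnd ℂ) z := by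
  rw [div_eq_iff (h.ne_zero hz), mul_comm, Complex.mul_conj, Complex.normSq_eq_norm_sq,
    h.norm_sq z hz]
  simp

theorem aeval_recip_eq_zero {z : ℂ} (hz : z ∈ P.aroots ℂ) : aeval z (recip q P) = 0 := by
  rw [WeilNum84.aeval_recip q P (h.ne_zero hz), h.div_eq_conj hz]
  have : aeval ((starRingEnd ℂ) z) P = (starRingEnd ℂ) (aeval z P) :=
    aeval_algHom_apply (starRingEnd ℂ).toIntAlgHom z P
  rw [this, (mem_aroots.1 hz).2, map_zero, mul_zero]

theorem coeff_zero_sq : P.coeff 0 ^ 2 = q ^ P.natDegree := by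
  have hp := (IsAlgClosed.splits (P.map (algebraMap ℤ ℂ))).coeff_zero_eq_prod_roots_of_monic (h.monic.map _)
  rw [coeff_map, ← aroots_def, algebraMap_int_eq, eq_intCast] at hp
  have hn := congrArg (fun x : ℂ => ‖x‖ ^ 2) hp
  simp only [norm_mul, norm_pow, norm_neg, norm_one, one_pow, one_mul, Complex.norm_intCast, sq_abs] at hn
  have hs : ∀ s : Multiset ℂ, (∀ z ∈ s, ‖z‖ ^ 2 = (q : ℝ)) → ‖s.prod‖ ^ 2 = (q : ℝ) ^ Multiset.card s := by
    intro s
    induction s using Multiset.induction_on with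
    | empty => intro; simp
    | cons a s ih =>
      intro hs
      rw [Multiset.prod_cons, norm_mul, mul_pow, hs a (Multiset.mem_cons_self _ _),
        ih fun z hz => hs z (Multiset.mem_cons_of_mem hz), Multiset.card_cons, pow_succ']
  rw [hs _ h.norm_sq, h.card_aroots] at hn
  exact_mod_cast hn

/-- The functional equation. -/
theorem recip_eq (hnd : (P.aroots ℂ).Nodup) : recip q P = C (P.coeff 0) * P := by
  classical
  have hinj : Function.Injective (algebraMap ℤ ℂ) := by
    rw [algebraMap_int_eq]; exact Int.cast_injective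
  rw [← sub_eq_zero, ← Polynomial.map_eq_zero_iff hinj]
  rcases Nat.eq_zero_or_pos P.natDegree with h0 | hpos
  · rw [h.monic.natDegree_eq_zero.1 h0]
    simp [recip]
  refine eq_zero_of_natDegree_lt_card_of_eval_eq_zero' _ (P.aroots ℂ).toFinset (fun z hz => ?_) ?_
  · rw [Multiset.mem_toFinset] at hz
    rw [eval_map_algebraMap, map_sub, map_mul, h.aeval_recip_eq_zero hz, (mem_aroots.1 hz).2, mul_zero, sub_zero]
  · rw [Multiset.toFinset_card_of_nodup hnd, h.card_aroots]
    refine lt_of_le_of_lt natDegree_map_le ?_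
    have hle : (recip q P - C (P.coeff 0) * P).natDegree ≤ P.natDegree :=
      (natDegree_sub_le _ _).trans (max_le (natDegree_recip_le q P) (natDegree_C_mul_le _ _))
    refine lt_of_le_of_ne hle fun heq => ?_
    have hc : (recip q P - C (P.coeff 0) * P).coeff P.natDegree = 0 := by
      have := coeff_recip q P (j := 0) (Nat.zero_le _)
      rw [Nat.sub_zero, pow_zero, mul_one] at this
      rw [coeff_sub, this, coeff_C_mul, h.monic.coeff_natDegree, mul_one, sub_self]
    have hne : recip q P - C (P.coeff 0) * P ≠ 0 := fun h0 => by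
      rw [h0, natDegree_zero] at heq; omega
    rw [← heq, ← leadingCoeff, leadingCoeff_eq_zero] at hc
    exact hne hc

theorem coeff_funcEq (hnd : (P.aroots ℂ).Nodup) {j : ℕ} (hj : j ≤ P.natDegree) :
    P.coeff j * q ^ j = P.coeff 0 * P.coeff (P.natDegree - j) := by
  rw [← coeff_recip q P hj, h.recip_eq hnd, coeff_C_mul]

/-- With an even degree `2D` the constant term is `± q^D`. -/
theorem exists_sign {D : ℕ} (hD : P.natDegree = 2 * D) : ∃ s : ℤ, IsUnit s ∧ P.coeff 0 = s * q ^ D := by
  have := h.coeff_zero_sq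
  rw [hD, pow_mul', sq_eq_sq_iff_eq_or_eq_neg] at this
  rcases this with h | h
  · exact ⟨1, isUnit_one, by rw [h, one_mul]⟩
  · exact ⟨-1, isUnit_one.neg, by rw [h]; ring⟩

theorem coeff_low (hnd : (P.aroots ℂ).Nodup) {D : ℕ} (hD : P.natDegree = 2 * D) {s : ℤ}
    (hs : P.coeff 0 = s * q ^ D) {r : ℕ} (hr : r ≤ D) :
    P.coeff (D - r) = s * q ^ r * P.coeff (D + r) := by
  have h' := h.coeff_funcEq hnd (j := D - r) (by omega)
  rw [hD, show 2 * D - (D - r) = D + r by omega, hs] at h'
  apply mul_right_cancel₀ (pow_ne_zero (D - r) h.pos.ne')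
  rw [h', show q ^ D = q ^ r * q ^ (D - r) by rw [← pow_add]; congr 1; omega]
  ring

end IsWeil

end Groth.Agent.WeilNum84
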