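import Groth.Agent.WeilNum84.Laurent
import Groth.Agent.WeilNum84.Poly

/-! The minimal central order of a family of Weil numbers. -/

set_option autoImplicit false

universe u

open MvPolynomial

namespace Groth.Agent.WeilNum84

variable {p e : ℕ} {ι : Type} [Fintype ι] {K : ι → Type u} [∀ i, Field (K i)] [∀ i, CharZero (K i)]
  {π : ∀ i, K i}

variable (p e π) in
/-- `F ↦ π`, `V ↦ q / π`. -/
noncomputable abbrev ev : MvPolynomial (Fin 2) ℤ →ₐ[ℤ] ((i : ι) → K i) :=
  MvPolynomial.aeval ![fun i => π i, fun i => ((p : K i) ^ e) / π i]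

variable (p e π) in
/-- The hypotheses. -/
structure Fam : Prop where
  prime : p.Prime
  integral : ∀ i, IsIntegral ℤ (π i)
  weil : ∀ i, ∀ z ∈ (minpoly ℤ (π i)).aroots ℂ, ‖z‖ = Real.sqrt ((p : ℝ) ^ e)

theorem isWeil_minpoly (hF : Fam p e π) (i : ι) : IsWeil ((p : ℤ) ^ e) (minpoly ℤ (π i)) where
  monic := minpoly.monic (hF.integral i)
  pos := by have := hF.prime.pos; positivity
  norm_sq z hz := by rw [hF.weil i z hz, Real.sq_sqrt (by positivity)]; simp

variable (π) in
/-- The product of the minimal polynomials. -/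
noncomputable abbrev Pw : Polynomial ℤ := ∏ i, minpoly ℤ (π i)

theorem monic_Pw (hF : Fam p e π) : (Pw π).Monic :=
  Polynomial.monic_prod_of_monic _ _ fun i _ => minpoly.monic (hF.integral i)

theorem natDegree_Pw (hF : Fam p e π) : (Pw π).natDegree = ∑ i, (minpoly ℤ (π i)).natDegree :=
  Polynomial.natDegree_prod_of_monic _ _ fun i _ => minpoly.monic (hF.integral i)

theorem isWeil_Pw (hF : Fam p e π) : IsWeil ((p : ℤ) ^ e) (Pw π) where
  monic := monic_Pw hF
  pos := by have := hF.prime.pos; positivity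
  norm_sq z hz := by
    rw [Polynomial.mem_aroots, map_prod, Finset.prod_eq_zero_iff] at hz
    obtain ⟨-, i, -, hi⟩ := hz
    exact (isWeil_minpoly hF i).norm_sq z (Polynomial.mem_aroots.2 ⟨(minpoly.monic (hF.integral i)).ne_zero, hi⟩)

theorem map_minpoly (hF : Fam p e π) (i : ι) :
    (minpoly ℤ (π i)).map (algebraMap ℤ ℚ) = minpoly ℚ (π i) :=
  (minpoly.isIntegrallyClosed_eq_field_fractions' ℚ (hF.integral i)).symm

theorem π_ne_zero (hF : Fam p e π) (i : ι) : π i ≠ 0 := fun h0 => by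
  have hP : minpoly ℤ (π i) = Polynomial.X :=
    Polynomial.map_injective (algebraMap ℤ ℚ) Int.cast_injective (by
      rw [map_minpoly hF i, h0, minpoly.zero, Polynomial.map_X])
  have := (isWeil_minpoly hF i).ne_zero (z := 0) (by
    rw [hP, Polynomial.mem_aroots]; exact ⟨Polynomial.X_ne_zero, by simp⟩)
  exact this rfl

theorem ev_rel (hF : Fam p e π) : ev p e π (rel ((p : ℤ) ^ e)) = 0 := by
  funext i
  simp only [ev, rel, map_sub, map_mul, aeval_X, aeval_C, Matrix.cons_val_zero, Matrix.cons_val_one,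
    Pi.sub_apply, Pi.mul_apply, Pi.zero_apply]
  rw [mul_div_cancel₀ _ (π_ne_zero hF i), sub_eq_zero]
  simp

theorem ev_aeval_X (P : Polynomial ℤ) (i : ι) :
    ev p e π (Polynomial.aeval (X 0) P) i = Polynomial.aeval (π i) P := by
  rw [← Polynomial.aeval_algHom_apply, aeval_X, Matrix.cons_val_zero]
  exact (Polynomial.aeval_algHom_apply (Pi.evalAlgHom ℤ K i) (fun i => π i) P).symm

theorem irreducible_map (hF : Fam p e π) (i : ι) :
    Irreducible ((minpoly ℤ (π i)).map (algebraMap ℤ ℚ)) := by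
  rw [map_minpoly hF]; exact minpoly.irreducible (hF.integral i).tower_top

theorem coprime_map (hF : Fam p e π) (hinj : ∀ i j, minpoly ℤ (π i) = minpoly ℤ (π j) → i = j)
    {i j : ι} (hij : i ≠ j) :
    IsCoprime ((minpoly ℤ (π i)).map (algebraMap ℤ ℚ)) ((minpoly ℤ (π j)).map (algebraMap ℤ ℚ)) := by
  rw [(irreducible_map hF i).coprime_iff_not_dvd]
  intro hd
  refine hij (hinj i j (Polynomial.map_injective (algebraMap ℤ ℚ) Int.cast_injective ?_))
  exact Polynomial.eq_of_monic_of_associated ((minpoly.monic (hF.integral i)).map _)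
    ((minpoly.monic (hF.integral j)).map _) ((irreducible_map hF i).associated_of_dvd (irreducible_map hF j) hd)

theorem nodup_aroots (hF : Fam p e π) (hinj : ∀ i j, minpoly ℤ (π i) = minpoly ℤ (π j) → i = j) :
    ((Pw π).aroots ℂ).Nodup := by
  have hs : ((Pw π).map (algebraMap ℤ ℚ)).Separable := by
    rw [Polynomial.map_prod]
    exact Polynomial.separable_prod (fun i j hij => coprime_map hF hinj hij)
      fun i => (irreducible_map hF i).separable
  rw [Polynomial.aroots_def, IsScalarTower.algebraMap_eq ℤ ℚ ℂ, ← Polynomial.map_map]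
  exact Polynomial.nodup_roots hs.map

theorem Pw_dvd (hF : Fam p e π) (hinj : ∀ i j, minpoly ℤ (π i) = minpoly ℤ (π j) → i = j)
    {g : Polynomial ℤ} (hg : ∀ i, Polynomial.aeval (π i) g = 0) : Pw π ∣ g := by
  rw [← Polynomial.map_dvd_map (algebraMap ℤ ℚ) Int.cast_injective (monic_Pw hF), Polynomial.map_prod]
  refine Finset.prod_dvd_of_coprime (fun i _ j _ hij => coprime_map hF hinj hij) fun i _ => ?_
  rw [map_minpoly hF]
  exact minpoly.dvd ℚ (π i) (by rw [Polynomial.aeval_map_algebraMap]; exact hg i)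

/-- Laurent normal form of `F^k` times a normal monomial. -/
theorem F_pow_nfm_sub_mem {q : ℤ} (hq : q ≠ 0) (k : ℕ) (m : ℤ) (hm : 0 ≤ m + k) :
    X 0 ^ k * nfm m - C (sc q m) * X 0 ^ (m + k).toNat ∈ Ideal.span {rel q} := by
  have h0 : Φ q (X 0) = LaurentPolynomial.T 1 := by rw [Φ, aeval_X, Matrix.cons_val_zero]
  rw [← ker_Φ hq, map_sub, map_mul, map_mul, map_pow, map_pow, h0, Φ_nfm, LaurentPolynomial.T_pow,
    LaurentPolynomial.T_pow, show Φ q (C (sc q m)) = LaurentPolynomial.C (sc q m) from aeval_C _ _,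
    mul_left_comm, ← LaurentPolynomial.T_add, sub_eq_zero, mul_one, mul_one, Int.toNat_of_nonneg hm,
    add_comm]

/-- The window index. -/
noncomputable abbrev wn (D : ℕ) (k : Fin (2 * D)) : MvPolynomial (Fin 2) ℤ := nfm ((k.val : ℤ) - D)

theorem X0_pow_cancel {q : ℤ} (hq : q ≠ 0) {k : ℕ} {g : MvPolynomial (Fin 2) ℤ}
    (h : X 0 ^ k * g ∈ Ideal.span {rel q}) : g ∈ Ideal.span {rel q} := by
  rw [← ker_Φ hq] at h ⊢
  rw [map_mul, map_pow, Φ, aeval_X, Matrix.cons_val_zero, LaurentPolynomial.T_pow] at h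
  exact ((LaurentPolynomial.isUnit_T _).mul_right_eq_zero).1 h

section even

variable (hF : Fam p e π) (hinj : ∀ i j, minpoly ℤ (π i) = minpoly ℤ (π j) → i = j)
  {D : ℕ} (hD : (Pw π).natDegree = 2 * D)

include hF hinj hD

theorem exists_window :
    ∃ c : ℤ → ℤ, c D = 1 ∧ IsUnit (c (-D)) ∧
      X 0 ^ D * (∑ j ∈ Finset.Icc (-(D : ℤ)) D, c j • nfm j) - Polynomial.aeval (X 0) (Pw π) ∈
        Ideal.span {rel ((p : ℤ) ^ e)} := by
  have hW := isWeil_Pw hF
  obtain ⟨s, hs, hs0⟩ := hW.exists_sign hD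
  set q : ℤ := (p : ℤ) ^ e
  refine ⟨fun m => if 0 ≤ m then (Pw π).coeff (D + m.toNat) else s * (Pw π).coeff (D + (-m).toNat), ?_, ?_, ?_⟩
  · show (if 0 ≤ (D : ℤ) then _ else _) = _
    rw [if_pos (by omega), Int.toNat_natCast, ← two_mul, ← hD, hW.monic.coeff_natDegree]
  · show IsUnit (if 0 ≤ -(D : ℤ) then _ else _)
    split_ifs with h
    · rw [show (-(D : ℤ)).toNat = D by omega, ← two_mul, ← hD, hW.monic.coeff_natDegree]; exact isUnit_one
    · rw [neg_neg, Int.toNat_natCast, ← two_mul, ← hD, hW.monic.coeff_natDegree, mul_one]; exact hs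
  have hcoef : ∀ m : ℤ, -(D : ℤ) ≤ m → m ≤ D →
      (if 0 ≤ m then (Pw π).coeff (D + m.toNat) else s * (Pw π).coeff (D + (-m).toNat)) * sc q m =
        (Pw π).coeff (m + D).toNat := by
    intro m h1 h2
    unfold sc
    split_ifs with h
    · rw [show (-m).toNat = 0 by omega, pow_zero, mul_one, show D + m.toNat = (m + D).toNat by omega]
    · rw [show (m + D).toNat = D - (-m).toNat by omega, hW.coeff_low (nodup_aroots hF hinj) hD hs0 (by omega)]
      ring
  have e1 : Polynomial.aeval (X 0 : MvPolynomial (Fin 2) ℤ) (Pw π) =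
      ∑ j ∈ Finset.Icc (-(D : ℤ)) D, C ((Pw π).coeff (j + D).toNat) * X 0 ^ (j + D).toNat := by
    rw [Polynomial.aeval_eq_sum_range, hD]
    refine Finset.sum_nbij' (fun k => (k : ℤ) - D) (fun j => (j + D).toNat) ?_ ?_ ?_ ?_ ?_
    · intro k hk; simp only [Finset.mem_range, Finset.mem_Icc] at hk ⊢; omega
    · intro j hj; simp only [Finset.mem_range, Finset.mem_Icc] at hj ⊢; omega
    · intro k hk; simp only [Finset.mem_range] at hk; omega
    · intro j hj; simp only [Finset.mem_Icc] at hj; omega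
    · intro k hk
      rw [show ((k : ℤ) - D + D).toNat = k by omega, Algebra.smul_def]
      rfl
  rw [e1, Finset.mul_sum, ← Finset.sum_sub_distrib]
  refine sum_mem fun j hj => ?_
  rw [Finset.mem_Icc] at hj
  dsimp only
  rw [← hcoef j hj.1 hj.2, mul_smul_comm, map_mul, mul_assoc, zsmul_eq_mul, ← eq_intCast (C : ℤ →+* MvPolynomial (Fin 2) ℤ), ← mul_sub]
  exact Ideal.mul_mem_left _ _ (F_pow_nfm_sub_mem (pow_ne_zero _ (by exact_mod_cast hF.prime.ne_zero)) D j (by omega))

theorem ev_eq_zero_of_congr {h : MvPolynomial (Fin 2) ℤ}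
    (hh : X 0 ^ D * h - Polynomial.aeval (X 0) (Pw π) ∈ Ideal.span {rel ((p : ℤ) ^ e)}) :
    ev p e π h = 0 := by
  obtain ⟨w, hw⟩ := Ideal.mem_span_singleton'.1 hh
  have := congrArg (ev p e π) hw
  rw [map_mul, ev_rel hF, mul_zero, eq_comm, map_sub, map_mul, map_pow, aeval_X, sub_eq_zero] at this
  funext i
  have hi := congrFun this i
  rw [ev_aeval_X, map_prod, Finset.prod_eq_zero (Finset.mem_univ i) (minpoly.aeval ℤ (π i))] at hi
  simp only [Matrix.cons_val_zero, Pi.mul_apply, Pi.pow_apply, mul_eq_zero, pow_eq_zero_iff',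
    π_ne_zero hF i, false_and, false_or] at hi
  exact hi

theorem linearIndependent_window : LinearIndependent ℤ fun k : Fin (2 * D) => ev p e π (wn D k) := by
  have hq : ((p : ℤ) ^ e) ≠ 0 := pow_ne_zero _ (by exact_mod_cast hF.prime.ne_zero)
  rw [Fintype.linearIndependent_iff]
  intro c hc k
  let G : Polynomial ℤ := ∑ k : Fin (2 * D), Polynomial.monomial k.val (c k * sc ((p : ℤ) ^ e) ((k.val : ℤ) - D))
  have hG : ∀ i, Polynomial.aeval (π i) G = 0 := by
    intro i
    have h1 := congrFun (congrArg (fun y => ev p e π (X 0) ^ D * y) hc) i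
    simp only [Finset.mul_sum, Finset.sum_apply, mul_zero, Pi.zero_apply] at h1
    simp only [G, map_sum, Polynomial.aeval_monomial, map_mul]
    rw [← h1]
    refine Finset.sum_congr rfl fun k _ => ?_
    obtain ⟨w, hw⟩ := Ideal.mem_span_singleton'.1
      (F_pow_nfm_sub_mem hq D ((k.val : ℤ) - D) (by omega))
    have h2 := congrFun (congrArg (ev p e π) hw) i
    rw [map_mul, ev_rel hF, mul_zero, map_sub, map_mul, map_mul, map_pow, map_pow, Pi.zero_apply,
      show ((k.val : ℤ) - D + D).toNat = k.val by omega] at h2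
    simp only [aeval_X, aeval_C, Matrix.cons_val_zero, Pi.sub_apply, Pi.mul_apply, Pi.pow_apply,
      Pi.algebraMap_apply, Pi.smul_apply, zsmul_eq_mul, Pi.intCast_apply, algebraMap_int_eq, eq_intCast, map_intCast] at h2 ⊢
    linear_combination (c k : K i) * h2
  have hd : G.degree < (Pw π).degree := by
    rw [Polynomial.degree_eq_natDegree (monic_Pw hF).ne_zero, hD]
    refine (Polynomial.degree_sum_le _ _).trans_lt ((Finset.sup_lt_iff (WithBot.bot_lt_coe _)).2 fun k _ => ?_)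
    exact (Polynomial.degree_monomial_le _ _).trans_lt (WithBot.coe_lt_coe.2 k.2)
  have hG0 := Polynomial.eq_zero_of_dvd_of_degree_lt (Pw_dvd hF hinj hG) hd
  have := congrArg (fun f => Polynomial.coeff f k.val) hG0
  simp only [G, Polynomial.finsetSum_coeff, Polynomial.coeff_monomial, Fin.val_inj, Finset.sum_ite_eq',
    Finset.mem_univ, if_true, Polynomial.coeff_zero] at this
  exact (mul_eq_zero.1 this).resolve_right (sc_ne_zero hq _)

theorem exists_window_form {h : MvPolynomial (Fin 2) ℤ}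
    (hh : X 0 ^ D * h - Polynomial.aeval (X 0) (Pw π) ∈ Ideal.span {rel ((p : ℤ) ^ e)})
    (g : MvPolynomial (Fin 2) ℤ) :
    ∃ a : Fin (2 * D) → ℤ, g - ∑ k, a k • wn D k ∈ Ideal.span {rel ((p : ℤ) ^ e), h} := by
  have hq : ((p : ℤ) ^ e) ≠ 0 := pow_ne_zero _ (by exact_mod_cast hF.prime.ne_zero)
  obtain ⟨c, hcD, hcD', hc⟩ := exists_window hF hinj hD
  let φ := Ideal.Quotient.mk (Ideal.span {rel ((p : ℤ) ^ e), h})
  have hφ : φ (rel ((p : ℤ) ^ e)) = 0 := Ideal.Quotient.eq_zero_iff_mem.2 (Ideal.subset_span (Or.inl rfl))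
  have hdiff : ∑ j ∈ Finset.Icc (-(D : ℤ)) D, c j • nfm j - h ∈ Ideal.span {rel ((p : ℤ) ^ e)} := by
    refine X0_pow_cancel hq (k := D) ?_
    have := Submodule.sub_mem _ hc hh
    rwa [sub_sub_sub_cancel_right, ← mul_sub] at this
  have hsum : ∑ j ∈ Finset.Icc (-(D : ℤ)) D, c j • φ (nfm j) = 0 := by
    simp only [← map_zsmul, ← map_sum]
    rw [show ∑ j ∈ Finset.Icc (-(D : ℤ)) D, c j • nfm j =
      (∑ j ∈ Finset.Icc (-(D : ℤ)) D, c j • nfm j - h) + h from (sub_add_cancel _ _).symm]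
    refine Ideal.Quotient.eq_zero_iff_mem.2 (add_mem ?_ (Ideal.subset_span (Or.inr rfl)))
    exact Ideal.span_mono (s := {rel ((p : ℤ) ^ e)}) (t := {rel ((p : ℤ) ^ e), h}) (Set.singleton_subset_iff.2 (Or.inl rfl)) hdiff
  have hg := map_mem_window φ hφ D c hcD hcD' hsum g
  have hset : (fun m => φ (nfm m)) '' Set.Ico (-(D : ℤ)) D = Set.range fun k : Fin (2 * D) => φ (wn D k) := by
    ext x
    constructor
    · rintro ⟨m, ⟨h1, h2⟩, rfl⟩
      exact ⟨⟨(m + D).toNat, by omega⟩, by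
        show φ (nfm (((m + D).toNat : ℤ) - D)) = φ (nfm m)
        rw [show ((m + D).toNat : ℤ) - D = m by omega]⟩
    · rintro ⟨k, rfl⟩
      exact ⟨_, ⟨by omega, by omega⟩, rfl⟩
  rw [hset] at hg
  obtain ⟨a, ha⟩ := (Submodule.mem_span_range_iff_exists_fun ℤ).1 hg
  refine ⟨a, ?_⟩
  rw [← Ideal.Quotient.eq_zero_iff_mem]
  show φ _ = 0
  rw [map_sub, sub_eq_zero, ← ha, map_sum]
  simp only [map_zsmul]

theorem ker_ev {h : MvPolynomial (Fin 2) ℤ}
    (hh : X 0 ^ D * h - Polynomial.aeval (X 0) (Pw π) ∈ Ideal.span {rel ((p : ℤ) ^ e)}) :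
    RingHom.ker (ev p e π) = Ideal.span {rel ((p : ℤ) ^ e), h} := by
  have hle : Ideal.span {rel ((p : ℤ) ^ e), h} ≤ RingHom.ker (ev p e π) := by
    rw [Ideal.span_le]
    rintro x (rfl | rfl) <;> rw [SetLike.mem_coe, RingHom.mem_ker]
    · exact ev_rel hF
    · exact ev_eq_zero_of_congr hF hinj hD hh
  refine le_antisymm (fun g hg => ?_) hle
  obtain ⟨a, ha⟩ := exists_window_form hF hinj hD hh g
  have h0 := RingHom.mem_ker.1 (hle ha)
  rw [map_sub, RingHom.mem_ker.1 hg, zero_sub, neg_eq_zero, map_sum] at h0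
  simp only [map_zsmul] at h0
  have hz := Fintype.linearIndependent_iff.1 (linearIndependent_window hF hinj hD) a h0
  simpa [hz] using ha

/-- The basis of the order. -/
noncomputable def windowBasis : Module.Basis (Fin (2 * D)) ℤ (ev p e π).range :=
  Module.Basis.mk (v := fun k => (⟨ev p e π (wn D k), AlgHom.mem_range_self _ _⟩ : (ev p e π).range))
    ((linearIndependent_window hF hinj hD).of_comp (ev p e π).range.val.toLinearMap) (by
      rintro ⟨y, g, rfl⟩ -
      obtain ⟨c, -, -, hc⟩ := exists_window hF hinj hD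
      obtain ⟨a, ha⟩ := exists_window_form hF hinj hD hc g
      rw [← ker_ev hF hinj hD hc, RingHom.mem_ker, map_sub, sub_eq_zero, map_sum] at ha
      rw [Submodule.mem_span_range_iff_exists_fun]
      exact ⟨a, Subtype.ext (by simp only [AddSubmonoidClass.coe_finset_sum, SetLike.val_smul, map_zsmul] at ha ⊢; exact ha.symm)⟩)

theorem isWeaklyRegular {h : MvPolynomial (Fin 2) ℤ}
    (hh : X 0 ^ D * h - Polynomial.aeval (X 0) (Pw π) ∈ Ideal.span {rel ((p : ℤ) ^ e)}) :
    IsSMulRegular (MvPolynomial (Fin 2) ℤ) (rel ((p : ℤ) ^ e)) ∧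
      ∀ g, h * g ∈ Ideal.span {rel ((p : ℤ) ^ e)} → g ∈ Ideal.span {rel ((p : ℤ) ^ e)} := by
  have hq : ((p : ℤ) ^ e) ≠ 0 := pow_ne_zero _ (by exact_mod_cast hF.prime.ne_zero)
  refine ⟨IsSMulRegular.of_ne_zero fun h0 => ?_, fun g hg => ?_⟩
  · have := congrArg (MvPolynomial.aeval ![(0 : ℤ), 0]) h0
    simp [rel, hF.prime.ne_zero] at this
  · rw [← ker_Φ hq] at hg ⊢
    rw [map_mul] at hg
    refine (mul_eq_zero.1 hg).resolve_left fun h0 => ?_
    have h1 := (ker_Φ hq _).2 hh
    rw [map_sub, map_mul, h0, mul_zero, zero_sub, neg_eq_zero] at h1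
    have h2 : Φ ((p : ℤ) ^ e) (Polynomial.aeval (X 0) (Pw π)) = Polynomial.toLaurent (Pw π) := by
      rw [← Polynomial.aeval_algHom_apply, Φ, aeval_X, Matrix.cons_val_zero,
        ← Polynomial.toLaurentAlg_apply]
      have : (Polynomial.aeval (LaurentPolynomial.T 1 : LaurentPolynomial ℤ)) = Polynomial.toLaurentAlg :=
        Polynomial.algHom_ext (by simp)
      rw [this]
    rw [h2] at h1
    exact (monic_Pw hF).ne_zero (Polynomial.toLaurent_injective (by rw [h1, map_zero]))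

end even

end Groth.Agent.WeilNum84
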