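import Groth.Agent.Gor.Ring
import Groth.Agent.WeilNum84.Family

/-! Ring theory of the minimal central order. -/

set_option autoImplicit false

universe u v

open MvPolynomial

namespace Groth.Agent.WeilNum84

theorem ringKrullDim_eq_one {S : Type u} [CommRing S] [Algebra ℤ S] [Algebra.IsIntegral ℤ S]
    (hinj : Function.Injective (algebraMap ℤ S)) : ringKrullDim S = 1 := by
  have hZ : ringKrullDim ℤ = 1 := IsPrincipalIdealRing.ringKrullDim_eq_one ℤ (Int.not_isField)
  refine le_antisymm ?_ ?_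
  · rw [← hZ]
    exact Order.krullDim_le_of_strictMono (PrimeSpectrum.comap (algebraMap ℤ S))
      fun a b hab => Ideal.IsIntegral.comap_lt_comap (R := ℤ) hab
  · obtain ⟨Q0, -, hQ0, h0⟩ := Ideal.exists_ideal_over_prime_of_isIntegral (⊥ : Ideal ℤ) (⊥ : Ideal S)
      (fun x hx => by
        rw [Ideal.mem_comap, Ideal.mem_bot] at hx
        rw [Ideal.mem_bot]
        exact hinj (by rw [hx, map_zero]))
    have : (Ideal.span {(2 : ℤ)}).IsPrime :=
      (Ideal.span_singleton_prime (by norm_num)).2 Int.prime_two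
    obtain ⟨Q1, hle, hQ1, h1⟩ := Ideal.exists_ideal_over_prime_of_isIntegral (Ideal.span {(2 : ℤ)}) Q0
      (by rw [h0]; exact bot_le)
    refine Order.one_le_krullDim_iff.2 ⟨⟨Q0, hQ0⟩, ⟨Q1, hQ1⟩, lt_of_le_of_ne hle fun h => ?_⟩
    obtain rfl : Q0 = Q1 := congrArg PrimeSpectrum.asIdeal h
    rw [h0, eq_comm, Ideal.span_singleton_eq_bot] at h1
    norm_num at h1

/-- The quotient of a Gorenstein ring by a regular sequence of length two. -/
theorem isGorensteinRing_of_pair {A S : Type u} [CommRing A] [CommRing S] (hA : LocCoh.IsGorensteinRing A)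
    (φ : A →+* S) (hφ : Function.Surjective φ) {f g : A}
    (hker : RingHom.ker φ = Ideal.span {f, g}) (hf : IsSMulRegular A f)
    (hg : ∀ x, g * x ∈ Ideal.span {f} → x ∈ Ideal.span {f}) : LocCoh.IsGorensteinRing S := by
  have hA1 := Gor.Ring.isGorensteinRing_quotient hA hf
  have hg' : IsSMulRegular (A ⧸ Ideal.span {f}) (Ideal.Quotient.mk (Ideal.span {f}) g) := by
    rw [isSMulRegular_iff_right_eq_zero_of_smul]
    intro x
    obtain ⟨x, rfl⟩ := Ideal.Quotient.mk_surjective x
    intro hx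
    rw [smul_eq_mul, ← map_mul, Ideal.Quotient.eq_zero_iff_mem] at hx
    exact Ideal.Quotient.eq_zero_iff_mem.2 (hg x hx)
  have hA2 := Gor.Ring.isGorensteinRing_quotient hA1 hg'
  refine Gor.Ring.isGorensteinRing_of_ringEquiv ?_ hA2
  have hle : ∀ x ∈ Ideal.span {f}, φ x = 0 := fun x hx => by
    rw [← RingHom.mem_ker, hker]; exact Ideal.span_mono (s := {f}) (by simp) hx
  let χ : A ⧸ Ideal.span {f} →+* S := Ideal.Quotient.lift _ φ hle
  have hkχ : RingHom.ker χ = Ideal.span {Ideal.Quotient.mk (Ideal.span {f}) g} := by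
    refine (Ideal.ker_quotient_lift φ hle).trans ?_
    rw [hker, Ideal.span_insert, Ideal.map_sup, Ideal.map_quotient_self, bot_sup_eq, Ideal.map_span,
      Set.image_singleton]
  exact RingEquiv.ofBijective (Ideal.Quotient.lift _ χ fun x hx => RingHom.mem_ker.1 (hkχ.ge hx))
    ⟨RingHom.lift_injective_of_ker_le_ideal _ _ hkχ.le,
      Ideal.Quotient.lift_surjective_of_surjective _ _
        (Ideal.Quotient.lift_surjective_of_surjective _ _ hφ)⟩

/-- `ℤ[F,V]/(f, g)` is Gorenstein when `f, g` is regular. -/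
theorem isGorensteinRing_of_ker_eq_span_pair {S : Type u} [CommRing S]
    (φ : MvPolynomial (Fin 2) ℤ →+* S) (hφ : Function.Surjective φ) {f g : MvPolynomial (Fin 2) ℤ}
    (hker : RingHom.ker φ = Ideal.span {f, g}) (hf : IsSMulRegular (MvPolynomial (Fin 2) ℤ) f)
    (hg : ∀ x, g * x ∈ Ideal.span {f} → x ∈ Ideal.span {f}) : LocCoh.IsGorensteinRing S := by
  have e : MvPolynomial (ULift.{u} (Fin 2)) (ULift.{u} ℤ) ≃+* MvPolynomial (Fin 2) ℤ :=
    (renameEquiv (ULift.{u} ℤ) Equiv.ulift).toRingEquiv.trans (mapEquiv (Fin 2) ULift.ringEquiv)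
  have hR : IsRegularRing (ULift.{u} ℤ) := IsRegularRing.of_ringEquiv ULift.ringEquiv.symm
  have hmap : Ideal.map e.symm (Ideal.span {f}) = Ideal.span {e.symm f} := by
    rw [Ideal.map_span, Set.image_singleton]
  refine isGorensteinRing_of_pair
    (Gor.Ring.isGorensteinRing_mvPolynomial (ULift.{u} (Fin 2)) (Gor.Ring.isGorensteinRing_of_isRegularRing (ULift.{u} ℤ)))
    (φ.comp e.toRingHom) (hφ.comp e.surjective) (f := e.symm f) (g := e.symm g) ?_ ?_ ?_
  · rw [← RingHom.comap_ker, hker,
      show Ideal.comap e.toRingHom (Ideal.span {f, g}) = Ideal.map e.symm (Ideal.span {f, g}) from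
        (Ideal.map_symm e).symm, Ideal.map_span, Set.image_pair]
  · intro a b h
    exact e.injective (hf (by simpa [smul_eq_mul] using congrArg e h))
  · intro x hx
    have h' := Ideal.mem_map_of_mem e hx
    rw [Ideal.map_span, Set.image_singleton, map_mul, e.apply_symm_apply, e.apply_symm_apply] at h'
    have h'' := Ideal.mem_map_of_mem e.symm (hg (e x) h')
    rwa [hmap, e.symm_apply_apply] at h''

end Groth.Agent.WeilNum84
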