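import Mathlib

/-! Counting unit roots from coefficients. -/

set_option autoImplicit false

open Polynomial

namespace Groth.Agent.WeilNum84

variable {L : Type*} [NormedField L] [IsUltrametricDist L]

theorem norm_add_eq_one {x y : L} (hx : ‖x‖ = 1) (hy : ‖y‖ < 1) : ‖x + y‖ = 1 := by
  rw [IsUltrametricDist.norm_add_eq_max_of_norm_ne_norm (by rw [hx]; exact hy.ne'), hx, max_eq_left hy.le]

theorem coeff_prod_X_sub_C (s : Multiset L) (hs : ∀ z ∈ s, ‖z‖ ≤ 1) :
    (∀ j, ‖(s.map fun z => X - C z).prod.coeff j‖ ≤ 1) ∧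
    (∀ j < Multiset.card (s.filter fun z => ‖z‖ < 1), ‖(s.map fun z => X - C z).prod.coeff j‖ < 1) ∧
    ‖(s.map fun z => X - C z).prod.coeff (Multiset.card (s.filter fun z => ‖z‖ < 1))‖ = 1 := by
  classical
  induction s using Multiset.induction_on with
  | empty =>
    refine ⟨fun j => ?_, fun j hj => absurd hj (Nat.not_lt_zero _), by simp⟩
    simp only [Multiset.map_zero, Multiset.prod_zero, coeff_one]
    split_ifs <;> simp
  | cons z s ih =>
    obtain ⟨h1, h2, h3⟩ := ih fun w hw => hs w (Multiset.mem_cons_of_mem hw)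
    have hz := hs z (Multiset.mem_cons_self _ _)
    set Q := (s.map fun z => X - C z).prod
    set m := Multiset.card (s.filter fun z => ‖z‖ < 1)
    rw [Multiset.map_cons, Multiset.prod_cons]
    have hc0 : ((X - C z) * Q).coeff 0 = -(z * Q.coeff 0) := by simp [sub_mul]
    have hc : ∀ j, ((X - C z) * Q).coeff (j + 1) = Q.coeff j + -(z * Q.coeff (j + 1)) := fun j => by
      rw [sub_mul, coeff_sub, coeff_X_mul, coeff_C_mul, sub_eq_add_neg]
    have hle : ∀ j, ‖-(z * Q.coeff j)‖ ≤ 1 := fun j => by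
      rw [norm_neg, norm_mul]; exact mul_le_one₀ hz (norm_nonneg _) (h1 _)
    have hall : ∀ j, ‖((X - C z) * Q).coeff j‖ ≤ 1 := by
      intro j
      cases j with
      | zero => rw [hc0]; exact hle 0
      | succ j => rw [hc]; exact (IsUltrametricDist.norm_add_le_max _ _).trans (max_le (h1 j) (hle _))
    refine ⟨hall, ?_⟩
    rcases lt_or_eq_of_le hz with hlt | heq
    · rw [Multiset.filter_cons_of_pos (p := fun w : L => ‖w‖ < 1) _ hlt, Multiset.card_cons]
      have hsmall : ∀ j, ‖-(z * Q.coeff j)‖ < 1 := fun j => by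
        rw [norm_neg, norm_mul]
        exact (mul_le_of_le_one_right (norm_nonneg _) (h1 j)).trans_lt hlt
      refine ⟨fun j hj => ?_, ?_⟩
      · cases j with
        | zero => rw [hc0]; exact hsmall 0
        | succ j =>
          rw [hc]
          exact (IsUltrametricDist.norm_add_le_max _ _).trans_lt (max_lt (h2 j (by omega)) (hsmall _))
      · rw [hc]; exact norm_add_eq_one h3 (hsmall _)
    · rw [Multiset.filter_cons_of_neg (p := fun w : L => ‖w‖ < 1) _ (by show ¬ ‖z‖ < 1; rw [heq]; exact lt_irrefl 1)]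
      have hnorm : ∀ j, ‖-(z * Q.coeff j)‖ = ‖Q.coeff j‖ := fun j => by
        rw [norm_neg, norm_mul, heq, one_mul]
      refine ⟨fun j hj => ?_, ?_⟩
      · cases j with
        | zero => rw [hc0, hnorm]; exact h2 0 hj
        | succ j =>
          rw [hc]
          refine (IsUltrametricDist.norm_add_le_max _ _).trans_lt (max_lt (h2 j (by omega)) ?_)
          rw [hnorm]; exact h2 _ hj
      · show ‖((X - C z) * Q).coeff m‖ = 1
        rcases Nat.eq_zero_or_pos m with h0 | hpos
        · rw [h0, hc0, hnorm, ← h0, h3]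
        · obtain ⟨j, hj⟩ : ∃ j, m = j + 1 := ⟨m - 1, by omega⟩
          rw [hj, hc, add_comm]
          exact norm_add_eq_one (by rw [hnorm, ← hj, h3]) (h2 j (by omega))

/-- Roots of a monic polynomial with coefficients of norm `≤ 1` have norm `≤ 1`. -/
theorem norm_root_le_one {P : L[X]} (hP : P.Monic) (hc : ∀ j, ‖P.coeff j‖ ≤ 1) {z : L}
    (hz : P.eval z = 0) : ‖z‖ ≤ 1 := by
  by_contra hgt
  push Not at hgt
  rw [eval_eq_sum_range, Finset.sum_range_succ, hP.coeff_natDegree, one_mul, add_eq_zero_iff_eq_neg] at hz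
  rcases Nat.eq_zero_or_pos P.natDegree with h0 | hpos
  · rw [h0] at hz; simp at hz
  have h1 : ‖∑ i ∈ Finset.range P.natDegree, P.coeff i * z ^ i‖ ≤ ‖z‖ ^ (P.natDegree - 1) := by
    refine IsUltrametricDist.norm_sum_le_of_forall_le_of_nonneg (by positivity) fun i hi => ?_
    rw [Finset.mem_range] at hi
    rw [norm_mul, norm_pow]
    exact (mul_le_of_le_one_left (by positivity) (hc i)).trans (pow_le_pow_right₀ hgt.le (by omega))
  rw [hz, norm_neg, norm_pow] at h1
  have h2 : ‖z‖ ^ (P.natDegree - 1) < ‖z‖ ^ P.natDegree := pow_lt_pow_right₀ hgt (by omega)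
  linarith

/-- Half of the roots are units iff the middle coefficient is a unit. -/
theorem half_units_iff [IsAlgClosed L] {P : L[X]} (hP : P.Monic) (hc : ∀ j, ‖P.coeff j‖ ≤ 1) {d : ℕ}
    (hd : P.natDegree = 2 * d) (hlow : ∀ j < d, ‖P.coeff j‖ < 1) :
    2 * Multiset.card (P.roots.filter fun z => ‖z‖ = 1) = P.natDegree ↔ ¬ ‖P.coeff d‖ < 1 := by
  classical
  have hs : ∀ z ∈ P.roots, ‖z‖ ≤ 1 := fun z hz =>
    norm_root_le_one hP hc ((mem_roots hP.ne_zero).1 hz)
  obtain ⟨-, h2, h3⟩ := coeff_prod_X_sub_C P.roots hs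
  rw [← (IsAlgClosed.splits P).eq_prod_roots_of_monic hP] at h2 h3
  have hsplit : Multiset.card (P.roots.filter fun z => ‖z‖ = 1) +
      Multiset.card (P.roots.filter fun z => ‖z‖ < 1) = P.natDegree := by
    rw [(IsAlgClosed.splits P).natDegree_eq_card_roots]
    conv_rhs => rw [← Multiset.filter_add_not (fun z => ‖z‖ = 1) P.roots, Multiset.card_add]
    congr 2
    refine Multiset.filter_congr fun z hz => ?_
    exact ⟨fun h => h.ne, fun h => lt_of_le_of_ne (hs z hz) h⟩
  set m := Multiset.card (P.roots.filter fun z => ‖z‖ < 1)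
  have hmd : d ≤ m := by
    by_contra h
    exact (h3 ▸ hlow m (by omega)).ne rfl
  constructor
  · intro h hlt
    rw [show d = m by omega, h3] at hlt
    exact lt_irrefl _ hlt
  · intro h
    have : m = d := le_antisymm (not_lt.1 fun h' => h (h2 d h')) hmd
    omega

end Groth.Agent.WeilNum84
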