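import Groth.Agent.Gor.Ring
import Mathlib

/-! Localizations of two quotients of a ring which agree away from an element, and socles of Gorenstein rings. -/

set_option autoImplicit false

universe u v

open CategoryTheory

namespace Groth.Agent.WeilNum84

variable {A : Type v} [CommRing A] {B B' : Type u} [CommRing B] [CommRing B']

theorem exists_hom_loc (φ : A →+* B) (hφ : Function.Surjective φ) (φ' : A →+* B') (P : Ideal B)
    [P.IsPrime] (P' : Ideal B') [P'.IsPrime] (hP : P.comap φ = P'.comap φ') {c : A} (hc : c ∉ P.comap φ)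
    (h : ∀ x, φ x = 0 → φ' (c * x) = 0) :
    ∃ θ : Localization.AtPrime P →+* Localization.AtPrime P',
      ∀ a, θ (algebraMap B _ (φ a)) = algebraMap B' _ (φ' a) := by
  let α : A →+* Localization.AtPrime P' := (algebraMap B' _).comp φ'
  have hu : ∀ a, a ∉ P.comap φ → IsUnit (α a) := fun a ha =>
    IsLocalization.map_units (Localization.AtPrime P') (⟨φ' a, fun h' => ha (hP ▸ h')⟩ : P'.primeCompl)
  have hker : RingHom.ker φ ≤ RingHom.ker α := fun x hx => by
    rw [RingHom.mem_ker] at hx ⊢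
    refine (hu c hc).mul_right_eq_zero.1 ?_
    rw [← map_mul]
    show algebraMap B' _ (φ' (c * x)) = 0
    rw [h x hx, map_zero]
  let ψ : B →+* Localization.AtPrime P' := RingHom.liftOfSurjective φ hφ ⟨α, hker⟩
  have hψ : ∀ a, ψ (φ a) = α a := fun a => RingHom.liftOfRightInverse_comp_apply _ _ _ _ a
  refine ⟨IsLocalization.lift (M := P.primeCompl) (g := ψ) fun y => ?_, fun a => ?_⟩
  · obtain ⟨a, ha⟩ := hφ y.1
    rw [← ha, hψ]
    exact hu a fun h' => y.2 (ha ▸ h')
  · rw [IsLocalization.lift_eq, hψ]; rfl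

theorem gorenstein_loc_iff (φ : A →+* B) (hφ : Function.Surjective φ) (φ' : A →+* B')
    (hφ' : Function.Surjective φ') (P : Ideal B) [P.IsPrime] (P' : Ideal B') [P'.IsPrime]
    (hP : P.comap φ = P'.comap φ') {c : A} (hc : c ∉ P.comap φ) (h : ∀ x, φ x = 0 → φ' (c * x) = 0)
    (h' : ∀ x, φ' x = 0 → φ (c * x) = 0) :
    LocCoh.IsGorensteinLocalRing (Localization.AtPrime P) ↔
      LocCoh.IsGorensteinLocalRing (Localization.AtPrime P') := by
  obtain ⟨θ, hθ⟩ := exists_hom_loc φ hφ φ' P P' hP hc h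
  obtain ⟨θ', hθ'⟩ := exists_hom_loc φ' hφ' φ P' P hP.symm (by rwa [← hP]) h'
  have h1 : θ'.comp θ = RingHom.id _ := by
    refine IsLocalization.ringHom_ext P.primeCompl (RingHom.ext fun b => ?_)
    obtain ⟨a, rfl⟩ := hφ b
    simp [hθ, hθ']
  have h2 : θ.comp θ' = RingHom.id _ := by
    refine IsLocalization.ringHom_ext P'.primeCompl (RingHom.ext fun b => ?_)
    obtain ⟨a, rfl⟩ := hφ' b
    simp [hθ, hθ']
  exact Gor.FlatLocal.gorenstein_iff_of_ringEquiv (RingEquiv.ofRingHom θ θ' h2 h1)

/-- In an Artinian Gorenstein ring the socle at a maximal ideal is cyclic. -/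
theorem socle_dependent [IsArtinianRing B] (hB : LocCoh.IsGorensteinRing B) (m : Ideal B) [m.IsMaximal]
    {x y : B} (hx : x ≠ 0) (hmx : ∀ b ∈ m, b * x = 0) (hmy : ∀ b ∈ m, b * y = 0) :
    ∃ t r : B, t ∉ m ∧ t * y = r * x := by
  have := hB.toIsNoetherian
  let L := Localization.AtPrime m
  have : IsArtinianRing L := inferInstance
  have : LocCoh.IsGorensteinLocalRing L := hB.isGorensteinLocalRing_localization m
  have hd : ringKrullDim L = ((0 : ℕ) : WithBot ℕ∞) := by
    rw [Nat.cast_zero]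
    exact le_antisymm (Ring.krullDimLE_iff.1 inferInstance) ringKrullDim_nonneg_of_nontrivial
  have hid := Gor.Basic.hasInjectiveDimensionLT_dim (A := L) hd
  have : Injective (ModuleCat.of L L) := injective_iff_hasInjectiveDimensionLT_one.2 hid
  have hinj : Module.Injective L L := Module.injective_module_of_injective_object (inj := this) L L
  let M := IsLocalRing.maximalIdeal L
  let x' : L := algebraMap B L x
  let y' : L := algebraMap B L y
  have hkill : ∀ z : B, (∀ b ∈ m, b * z = 0) → ∀ l ∈ M, l * algebraMap B L z = 0 := by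
    intro z hz l hl
    obtain ⟨b, t, rfl⟩ := IsLocalization.exists_mk'_eq m.primeCompl l
    have hb : b ∈ m := (IsLocalization.AtPrime.mk'_mem_maximal_iff L m b t).1 hl
    rw [mul_comm, IsLocalization.mul_mk'_eq_mk'_of_mul, mul_comm, hz b hb, IsLocalization.mk'_zero]
  have hx' : x' ≠ 0 := fun h0 => by
    obtain ⟨t, ht⟩ := (IsLocalization.map_eq_zero_iff m.primeCompl L x).1 h0
    obtain ⟨a, i, hi, hai⟩ := (Ideal.IsMaximal.exists_inv (I := m) inferInstance t.2)
    apply hx
    calc x = (a * (t : B) + i) * x := by rw [hai, one_mul]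
      _ = 0 := by rw [add_mul, hmx i hi, add_zero, mul_assoc, ht, mul_zero]
  let j1 : (L ⧸ M) →ₗ[L] L := M.liftQ (LinearMap.toSpanSingleton L L x') fun l hl => by
    rw [LinearMap.mem_ker, LinearMap.toSpanSingleton_apply, smul_eq_mul]; exact hkill x hmx l hl
  let j2 : (L ⧸ M) →ₗ[L] L := M.liftQ (LinearMap.toSpanSingleton L L y') fun l hl => by
    rw [LinearMap.mem_ker, LinearMap.toSpanSingleton_apply, smul_eq_mul]; exact hkill y hmy l hl
  have hj1 : Function.Injective j1 := by
    rw [← LinearMap.ker_eq_bot, LinearMap.ker_eq_bot']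
    intro z hz
    obtain ⟨l, rfl⟩ := Submodule.Quotient.mk_surjective M z
    rw [Submodule.liftQ_apply, LinearMap.toSpanSingleton_apply, smul_eq_mul] at hz
    rw [Submodule.Quotient.mk_eq_zero]
    by_contra hl
    exact hx' ((IsLocalRing.notMem_maximalIdeal.1 hl).mul_right_eq_zero.1 hz)
  obtain ⟨g, hg⟩ := Module.Injective.out j1 hj1 j2
  have h1 := hg (Submodule.Quotient.mk 1)
  rw [Submodule.liftQ_apply, Submodule.liftQ_apply, LinearMap.toSpanSingleton_apply,
    LinearMap.toSpanSingleton_apply, one_smul, one_smul] at h1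
  have h2 : g x' = x' * g 1 := by rw [← smul_eq_mul, ← map_smul, smul_eq_mul, mul_one]
  obtain ⟨r, t, hrt⟩ := IsLocalization.exists_mk'_eq m.primeCompl (g 1)
  rw [h2, ← hrt, IsLocalization.mul_mk'_eq_mk'_of_mul, IsLocalization.mk'_eq_iff_eq_mul, ← map_mul,
    IsLocalization.eq_iff_exists m.primeCompl L] at h1
  obtain ⟨c, hc⟩ := h1
  refine ⟨c * t, c * r, fun hm => ((Ideal.IsPrime.mem_or_mem inferInstance hm).elim c.2 t.2), ?_⟩
  linear_combination -hc

end Groth.Agent.WeilNum84
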