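import Groth.Agent.WeilNum84.Order
import Groth.Agent.WeilNum84.LocEquiv

/-! The minimal central order of a family enlarged by a rational Weil number. -/

set_option autoImplicit false

universe u

open MvPolynomial

namespace Groth.Agent.WeilNum84

variable {p e : ℕ} {ι : Type} [Fintype ι] {K : ι → Type u} [∀ i, Field (K i)] [∀ i, CharZero (K i)]
  {π : ∀ i, K i} {s : ℤ} {D : ℕ} {h : MvPolynomial (Fin 2) ℤ}

variable (p e π s) in
/-- `F ↦ (π, s)`, `V ↦ (q / π, s)`. -/
noncomputable abbrev evs : MvPolynomial (Fin 2) ℤ →ₐ[ℤ] (((i : ι) → K i) × ℚ) :=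
  MvPolynomial.aeval ![(⟨fun i => π i, (s : ℚ)⟩ : ((i : ι) → K i) × ℚ), ⟨fun i => ((p : K i) ^ e) / π i, (s : ℚ)⟩]

variable (s) in
/-- Evaluation at `(s, s)`. -/
noncomputable abbrev es : MvPolynomial (Fin 2) ℤ →ₐ[ℤ] ℤ := MvPolynomial.aeval ![s, s]

variable (s h p e) in
/-- The relations. -/
noncomputable abbrev augI : Ideal (MvPolynomial (Fin 2) ℤ) :=
  Ideal.span {rel ((p : ℤ) ^ e), h * (X 0 - C s), h * (X 1 - C s)}

variable (p e π s D h) in
/-- The hypotheses. -/
structure Aug : Prop where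
  fam : Fam p e π
  inj : ∀ i j, minpoly ℤ (π i) = minpoly ℤ (π j) → i = j
  deg : (Pw π).natDegree = 2 * D
  deg_one : ∀ i, (minpoly ℤ (π i)).natDegree ≠ 1
  sq : s ^ 2 = (p : ℤ) ^ e
  pos : 0 < e
  congr : X 0 ^ D * h - Polynomial.aeval (X 0) (Pw π) ∈ Ideal.span {rel ((p : ℤ) ^ e)}

theorem evs_fst (g : MvPolynomial (Fin 2) ℤ) : (evs p e π s g).1 = ev p e π g := by
  have : (AlgHom.fst ℤ ((i : ι) → K i) ℚ).comp (evs p e π s) = ev p e π :=
    algHom_ext fun i => by fin_cases i <;> simp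
  exact DFunLike.congr_fun this g

theorem evs_snd (g : MvPolynomial (Fin 2) ℤ) : (evs p e π s g).2 = (es s g : ℚ) := by
  have : (AlgHom.snd ℤ ((i : ι) → K i) ℚ).comp (evs p e π s) = (Int.castRingHom ℚ).toIntAlgHom.comp (es s) :=
    algHom_ext fun i => by fin_cases i <;> simp
  exact DFunLike.congr_fun this g

theorem sub_es_mem (v : MvPolynomial (Fin 2) ℤ) :
    v - C (es s v) ∈ Ideal.span ({X 0 - C s, X 1 - C s} : Set (MvPolynomial (Fin 2) ℤ)) := by
  induction v using MvPolynomial.induction_on with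
  | C a => simp
  | add x y hx hy =>
    rw [map_add, map_add, show x + y - (C (es s x) + C (es s y)) = (x - C (es s x)) + (y - C (es s y)) by ring]
    exact add_mem hx hy
  | mul_X x i hx =>
    have hi : es s (X i) = s ∧
        (X i - C s : MvPolynomial (Fin 2) ℤ) ∈ Ideal.span ({X 0 - C s, X 1 - C s} : Set (MvPolynomial (Fin 2) ℤ)) := by
      fin_cases i
      · exact ⟨by simp, Ideal.subset_span (Or.inl rfl)⟩
      · exact ⟨by simp, Ideal.subset_span (Or.inr rfl)⟩
    rw [map_mul, hi.1, map_mul,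
      show x * X i - C (es s x) * C s = (x - C (es s x)) * X i + C (es s x) * (X i - C s) by ring]
    exact add_mem (Ideal.mul_mem_right _ _ hx) (Ideal.mul_mem_left _ _ hi.2)

theorem coeff_θ1 (g : MvPolynomial (Fin 2) ℤ) :
    (MvPolynomial.aeval ![(Polynomial.X : Polynomial ℤ), 0] g).coeff 0 = MvPolynomial.aeval ![(0 : ℤ), 0] g := by
  rw [Polynomial.coeff_zero_eq_aeval_zero]
  exact DFunLike.congr_fun (show (Polynomial.aeval (0 : ℤ)).comp (MvPolynomial.aeval ![(Polynomial.X : Polynomial ℤ), 0]) =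
    MvPolynomial.aeval ![(0 : ℤ), 0] from algHom_ext fun j => by fin_cases j <;> simp) g

theorem coeff_θ2 (g : MvPolynomial (Fin 2) ℤ) :
    (MvPolynomial.aeval ![0, (Polynomial.X : Polynomial ℤ)] g).coeff 0 = MvPolynomial.aeval ![(0 : ℤ), 0] g := by
  rw [Polynomial.coeff_zero_eq_aeval_zero]
  exact DFunLike.congr_fun (show (Polynomial.aeval (0 : ℤ)).comp (MvPolynomial.aeval ![0, (Polynomial.X : Polynomial ℤ)]) =
    MvPolynomial.aeval ![(0 : ℤ), 0] from algHom_ext fun j => by fin_cases j <;> simp) g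

/-- Splitting along the axes when the mixed monomials vanish. -/
theorem split_axes {B : Type*} [CommRing B] (ρ : MvPolynomial (Fin 2) ℤ →+* B) (hXY : ρ (X 0) * ρ (X 1) = 0)
    (g : MvPolynomial (Fin 2) ℤ) :
    ρ g + ρ (C (MvPolynomial.aeval ![(0 : ℤ), 0] g)) =
      ρ (Polynomial.aeval (X 0) (MvPolynomial.aeval ![(Polynomial.X : Polynomial ℤ), 0] g)) +
      ρ (Polynomial.aeval (X 1) (MvPolynomial.aeval ![0, (Polynomial.X : Polynomial ℤ)] g)) := by
  induction g using MvPolynomial.induction_on with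
  | C a => simp
  | add a b ha hb => simp only [map_add] at *; linear_combination ha + hb
  | mul_X a i ha =>
    simp only [map_mul] at ha ⊢
    fin_cases i
    · have e2 : ρ (Polynomial.aeval (X 1) (MvPolynomial.aeval ![0, (Polynomial.X : Polynomial ℤ)] a)) * ρ (X 0) =
          ρ (C (MvPolynomial.aeval ![(0 : ℤ), 0] a)) * ρ (X 0) := by
        rw [← Polynomial.divX_mul_X_add (MvPolynomial.aeval ![0, (Polynomial.X : Polynomial ℤ)] a), coeff_θ2,
          map_add, map_mul, Polynomial.aeval_X, Polynomial.aeval_C, map_add, map_mul, add_mul, mul_assoc,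
          mul_comm (ρ (X 1)), hXY, mul_zero, zero_add, MvPolynomial.algebraMap_eq]
      simp only [aeval_X, Fin.zero_eta, Matrix.cons_val_zero, map_zero, mul_zero, add_zero,
        Polynomial.aeval_X] at e2 ⊢
      linear_combination (ρ (X 0)) * ha + e2
    · have e2 : ρ (Polynomial.aeval (X 0) (MvPolynomial.aeval ![(Polynomial.X : Polynomial ℤ), 0] a)) * ρ (X 1) =
          ρ (C (MvPolynomial.aeval ![(0 : ℤ), 0] a)) * ρ (X 1) := by
        rw [← Polynomial.divX_mul_X_add (MvPolynomial.aeval ![(Polynomial.X : Polynomial ℤ), 0] a), coeff_θ1,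
          map_add, map_mul, Polynomial.aeval_X, Polynomial.aeval_C, map_add, map_mul, add_mul, mul_assoc,
          hXY, mul_zero, zero_add, MvPolynomial.algebraMap_eq]
      simp only [aeval_X, Fin.mk_one, Matrix.cons_val_zero, Matrix.cons_val_one, map_zero, mul_zero,
        add_zero, zero_add, Polynomial.aeval_X] at e2 ⊢
      linear_combination (ρ (X 1)) * ha + e2

namespace Aug

variable (hA : Aug p e π s D h)

include hA

theorem q_ne : ((p : ℤ) ^ e) ≠ 0 := pow_ne_zero _ (by exact_mod_cast hA.fam.prime.ne_zero)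

theorem s_ne : s ≠ 0 := fun h0 => by
  have := hA.sq
  rw [h0] at this
  exact hA.q_ne (by simpa using this.symm)

theorem p_dvd_s : (p : ℤ) ∣ s :=
  (Nat.prime_iff_prime_int.1 hA.fam.prime).dvd_of_dvd_pow (n := 2)
    (hA.sq ▸ dvd_pow_self _ hA.pos.ne')

theorem p_dvd_q : (p : ℤ) ∣ (p : ℤ) ^ e := dvd_pow_self _ hA.pos.ne'

theorem es_rel : es s (rel ((p : ℤ) ^ e)) = 0 := by
  simp [rel, ← hA.sq, _root_.sq]

theorem minpoly_eval_ne (i : ι) (x : ℤ) : (minpoly ℤ (π i)).eval x ≠ 0 := fun h0 => by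
  have hd := Polynomial.dvd_iff_isRoot.2 h0
  have hirr := minpoly.irreducible (hA.fam.integral i)
  obtain ⟨c, hc⟩ := hd
  rcases hirr.isUnit_or_isUnit hc with hu | hu
  · exact Polynomial.not_isUnit_X_sub_C x hu
  · obtain ⟨r, hr, rfl⟩ := Polynomial.isUnit_iff.1 hu
    refine hA.deg_one i ?_
    rw [hc, Polynomial.natDegree_mul_C hr.ne_zero, Polynomial.natDegree_X_sub_C]

theorem es_h_ne : es s h ≠ 0 := fun h0 => by
  obtain ⟨w, hw⟩ := Ideal.mem_span_singleton'.1 hA.congr
  have h1 := congrArg (es s) hw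
  rw [map_mul, hA.es_rel, mul_zero, map_sub, map_mul, h0, mul_zero, zero_sub, eq_comm, neg_eq_zero,
    ← Polynomial.aeval_algHom_apply, aeval_X, Matrix.cons_val_zero, map_prod, Finset.prod_eq_zero_iff] at h1
  obtain ⟨i, -, hi⟩ := h1
  rw [Polynomial.coe_aeval_eq_eval] at hi
  exact hA.minpoly_eval_ne i s hi

theorem ker_evs : RingHom.ker (evs p e π s) = augI p e s h := by
  refine le_antisymm (fun g hg => ?_) ?_
  · have h1 : g ∈ RingHom.ker (ev p e π) := by
      rw [RingHom.mem_ker, ← evs_fst (s := s), RingHom.mem_ker.1 hg]; rfl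
    have h2 : es s g = 0 := by
      have := evs_snd (p := p) (e := e) (π := π) (s := s) g
      rw [RingHom.mem_ker.1 hg] at this
      simpa using this.symm
    rw [ker_ev hA.fam hA.inj hA.deg hA.congr] at h1
    obtain ⟨a, b, rfl⟩ := Ideal.mem_span_pair.1 h1
    rw [map_add, map_mul, map_mul, hA.es_rel, mul_zero, zero_add] at h2
    have hb := sub_es_mem (s := s) b
    rw [(mul_eq_zero.1 h2).resolve_right hA.es_h_ne, map_zero, sub_zero] at hb
    obtain ⟨c, d, rfl⟩ := Ideal.mem_span_pair.1 hb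
    refine add_mem (Ideal.mul_mem_left _ _ (Ideal.subset_span (Or.inl rfl))) ?_
    rw [show (c * (X 0 - C s) + d * (X 1 - C s)) * h = c * (h * (X 0 - C s)) + d * (h * (X 1 - C s)) by ring]
    exact add_mem (Ideal.mul_mem_left _ _ (Ideal.subset_span (Or.inr (Or.inl rfl))))
      (Ideal.mul_mem_left _ _ (Ideal.subset_span (Or.inr (Or.inr rfl))))
  · have hh : ev p e π h = 0 := ev_eq_zero_of_congr hA.fam hA.inj hA.deg hA.congr
    rw [Ideal.span_le]
    rintro x (rfl | rfl | rfl) <;> rw [SetLike.mem_coe, RingHom.mem_ker] <;>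
      refine Prod.ext ((evs_fst _).trans ?_) ((evs_snd _).trans ?_)
    · exact ev_rel hA.fam
    · rw [hA.es_rel]; simp
    · rw [map_mul, hh, zero_mul]; rfl
    · simp
    · rw [map_mul, hh, zero_mul]; rfl
    · simp

/-- The restriction to the image. -/
theorem ker_res : RingHom.ker (evs p e π s).rangeRestrict.toRingHom = augI p e s h := by
  rw [← hA.ker_evs]
  ext x
  rw [RingHom.mem_ker, RingHom.mem_ker]
  exact Subtype.ext_iff

theorem finite_range : Module.Finite ℤ (evs p e π s).range := by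
  have : Module.Finite ℤ (ev p e π).range := Module.Finite.of_basis (windowBasis hA.fam hA.inj hA.deg)
  let L : (evs p e π s).range →ₗ[ℤ] (ev p e π).range × ℤ :=
    { toFun := fun y => (⟨y.1.1, by obtain ⟨g, hg⟩ := y.2; exact ⟨g, by rw [← hg]; exact (evs_fst g).symm⟩⟩,
        ⌊y.1.2⌋)
      map_add' := fun x y => by
        refine Prod.ext rfl ?_
        obtain ⟨g, hg⟩ := x.2; obtain ⟨g', hg'⟩ := y.2
        show ⌊x.1.2 + y.1.2⌋ = ⌊x.1.2⌋ + ⌊y.1.2⌋
        rw [← hg, ← hg']
        show ⌊(evs p e π s g).2 + (evs p e π s g').2⌋ = _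
        rw [evs_snd, evs_snd, Int.floor_intCast_add]
        show _ = ⌊(evs p e π s g).2⌋ + ⌊(evs p e π s g').2⌋
        rw [evs_snd, evs_snd]
        simp only [Int.floor_intCast]
      map_smul' := fun c x => by
        refine Prod.ext rfl ?_
        obtain ⟨g, hg⟩ := x.2
        show ⌊c • x.1.2⌋ = c • ⌊x.1.2⌋
        rw [← hg]
        show ⌊c • (evs p e π s g).2⌋ = c • ⌊(evs p e π s g).2⌋
        rw [evs_snd, zsmul_eq_mul, ← Int.cast_mul, Int.floor_intCast, Int.floor_intCast, smul_eq_mul] }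
  refine Module.Finite.of_injective L fun x y hxy => Subtype.ext (Prod.ext ?_ ?_)
  · exact congrArg (fun z => (z.1 : (i : ι) → K i)) hxy
  · obtain ⟨g, hg⟩ := x.2; obtain ⟨g', hg'⟩ := y.2
    have h2 : ⌊x.1.2⌋ = ⌊y.1.2⌋ := congrArg Prod.snd hxy
    rw [← hg, ← hg'] at h2 ⊢
    change ⌊(evs p e π s g).2⌋ = ⌊(evs p e π s g').2⌋ at h2
    show (evs p e π s g).2 = (evs p e π s g').2
    rw [evs_snd, evs_snd, Int.floor_intCast, Int.floor_intCast] at h2
    rw [evs_snd, evs_snd, h2]

theorem Φ_X_sub_ne : Φ ((p : ℤ) ^ e) (X 0 - C s) ≠ 0 := fun h0 => by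
  rw [Φ, map_sub, aeval_X, aeval_C, Matrix.cons_val_zero, ← LaurentPolynomial.C_eq_algebraMap] at h0
  have h1 := congrArg (fun f : LaurentPolynomial ℤ => f.coeff 1) h0
  simp only [AddMonoidAlgebra.coeff_sub, Finsupp.sub_apply, LaurentPolynomial.T_apply, LaurentPolynomial.C_apply,
    AddMonoidAlgebra.coeff_zero, Finsupp.coe_zero, Pi.zero_apply] at h1
  norm_num at h1

/-- `R` is Gorenstein when `p` does not divide `h(s, s)`. -/
theorem gorenstein_of_not_dvd (hp : ¬ (p : ℤ) ∣ es s h) :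
    LocCoh.IsGorensteinRing (evs p e π s).range := by
  set R := (evs p e π s).range
  let φ : MvPolynomial (Fin 2) ℤ →+* R := (evs p e π s).rangeRestrict.toRingHom
  have hφ : Function.Surjective φ := (evs p e π s).rangeRestrict_surjective
  have : Module.Finite ℤ R := hA.finite_range
  have hN : IsNoetherianRing R := IsNoetherianRing.of_finite ℤ R
  refine { isGorensteinLocalRing_localization := fun P _ => ?_ }
  let Q := P.comap φ
  have hkerQ : augI p e s h ≤ Q := fun x hx => by
    rw [← hA.ker_res, RingHom.mem_ker] at hx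
    show φ x ∈ P
    rw [show φ x = 0 from hx]; exact zero_mem _
  -- a regular pair agreeing with the relations at `Q`
  suffices key : ∃ (u v : MvPolynomial (Fin 2) ℤ) (c : MvPolynomial (Fin 2) ℤ), c ∉ Q ∧
      IsSMulRegular (MvPolynomial (Fin 2) ℤ) u ∧ (∀ x, v * x ∈ Ideal.span {u} → x ∈ Ideal.span {u}) ∧
      (∀ x ∈ augI p e s h, c * x ∈ Ideal.span {u, v}) ∧ (∀ x ∈ Ideal.span {u, v}, c * x ∈ augI p e s h) by
    obtain ⟨u, v, c, hc, hu, hv, h1, h2⟩ := key
    let S := ULift.{u} (MvPolynomial (Fin 2) ℤ ⧸ Ideal.span {u, v})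
    let φ' : MvPolynomial (Fin 2) ℤ →+* S :=
      ULift.ringEquiv.symm.toRingHom.comp (Ideal.Quotient.mk (Ideal.span {u, v}))
    have hφ' : Function.Surjective φ' :=
      ULift.ringEquiv.symm.surjective.comp Ideal.Quotient.mk_surjective
    have hk' : RingHom.ker φ' = Ideal.span {u, v} := by
      rw [RingHom.ker_comp_of_injective _ ULift.ringEquiv.symm.injective, Ideal.mk_ker]
    have hS := isGorensteinRing_of_ker_eq_span_pair φ' hφ' hk' hu hv
    have hJQ : RingHom.ker φ' ≤ Q := fun x hx => by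
      rw [hk'] at hx
      exact ((Ideal.IsPrime.mem_or_mem inferInstance) (hkerQ (h2 x hx))).resolve_left hc
    let P' := Q.map φ'
    have : P'.IsPrime := Ideal.map_isPrime_of_surjective hφ' hJQ
    have hcomap : P.comap φ = P'.comap φ' := by
      show Q = (Q.map φ').comap φ'
      rw [Ideal.comap_map_of_surjective _ hφ', ← RingHom.ker, sup_eq_left.2 hJQ]
    refine (gorenstein_loc_iff φ hφ φ' hφ' P P' hcomap hc (fun x hx => ?_) (fun x hx => ?_)).2
      (hS.isGorensteinLocalRing_localization P')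
    · rw [← RingHom.mem_ker, hk']
      exact h1 x (hA.ker_res ▸ RingHom.mem_ker.2 hx)
    · rw [← RingHom.mem_ker, hA.ker_res]
      exact h2 x (hk' ▸ RingHom.mem_ker.2 hx)
  have hf : rel ((p : ℤ) ^ e) ∈ augI p e s h := Ideal.subset_span (Or.inl rfl)
  have h0 : h * (X 0 - C s) ∈ augI p e s h := Ideal.subset_span (Or.inr (Or.inl rfl))
  have h1 : h * (X 1 - C s) ∈ augI p e s h := Ideal.subset_span (Or.inr (Or.inr rfl))
  obtain ⟨hr, hg⟩ := isWeaklyRegular hA.fam hA.inj hA.deg hA.congr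
  by_cases hpQ : C (p : ℤ) ∈ Q
  · by_cases hhQ : h ∈ Q
    · obtain ⟨c, hc, hcI⟩ : ∃ c, c ∉ Q ∧ h * c ∈ augI p e s h := by
        by_contra hcon
        push Not at hcon
        have hle : Ideal.span ({X 0 - C s, X 1 - C s} : Set (MvPolynomial (Fin 2) ℤ)) ≤ Q := by
          rw [Ideal.span_le]
          rintro x (rfl | rfl)
          · by_contra hx; exact hcon _ hx h0
          · by_contra hx; exact hcon _ hx h1
        have hN : C (es s h) ∈ Q := by
          have := Q.sub_mem hhQ (hle (sub_es_mem (s := s) h))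
          rwa [sub_sub_cancel] at this
        obtain ⟨a, b, hab⟩ := (Int.isCoprime_iff_gcd_eq_one.2
          (Nat.coprime_iff_gcd_eq_one.1 ((Nat.Prime.coprime_iff_not_dvd hA.fam.prime).2
            fun hd => hp (Int.natCast_dvd.2 hd))) : IsCoprime (p : ℤ) (es s h))
        have : (1 : MvPolynomial (Fin 2) ℤ) ∈ Q := by
          rw [show (1 : MvPolynomial (Fin 2) ℤ) = C a * C (p : ℤ) + C b * C (es s h) by
            rw [← map_mul, ← map_mul, ← map_add, hab, map_one]]
          exact add_mem (Ideal.mul_mem_left _ _ hpQ) (Ideal.mul_mem_left _ _ hN)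
        exact (inferInstance : Q.IsPrime).ne_top ((Ideal.eq_top_iff_one _).2 this)
      refine ⟨_, h, c, hc, hr, hg, fun x hx => Ideal.mul_mem_left _ _ ?_, ?_⟩
      · refine Ideal.span_le.2 ?_ hx
        rintro y (rfl | rfl | rfl)
        · exact Ideal.subset_span (Or.inl rfl)
        · exact Ideal.mul_mem_right _ _ (Ideal.subset_span (Or.inr rfl))
        · exact Ideal.mul_mem_right _ _ (Ideal.subset_span (Or.inr rfl))
      · intro x hx
        obtain ⟨a, b, rfl⟩ := Ideal.mem_span_pair.1 hx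
        rw [show c * (a * rel ((p : ℤ) ^ e) + b * h) = (c * a) * rel ((p : ℤ) ^ e) + b * (h * c) by ring]
        exact add_mem (Ideal.mul_mem_left _ _ hf) (Ideal.mul_mem_left _ _ hcI)
    · refine ⟨X 0 - C s, X 1 - C s, h, hhQ, IsSMulRegular.of_ne_zero fun h0' => ?_, fun x hx => ?_, ?_, ?_⟩
      · have := congrArg (MvPolynomial.aeval ![s + 1, (0 : ℤ)]) h0'
        simp at this
      · obtain ⟨w, hw⟩ := Ideal.mem_span_singleton'.1 hx
        let θ : MvPolynomial (Fin 2) ℤ →ₐ[ℤ] Polynomial ℤ := MvPolynomial.aeval ![Polynomial.C s, Polynomial.X]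
        have hθ : ∀ y, θ y = 0 → y ∈ Ideal.span {X 0 - C s} := by
          intro y hy
          have : ∀ y : MvPolynomial (Fin 2) ℤ,
              y - Polynomial.aeval (X 1) (θ y) ∈ Ideal.span {X 0 - C s} := by
            intro y
            induction y using MvPolynomial.induction_on with
            | C a => simp [θ]
            | add a b ha hb => rw [map_add, map_add, add_sub_add_comm]; exact add_mem ha hb
            | mul_X a i ha =>
              rw [map_mul, map_mul]
              fin_cases i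
              · show a * X 0 - _ * Polynomial.aeval (X 1) (θ (X 0)) ∈ _
                rw [show θ (X 0) = Polynomial.C s by simp [θ], Polynomial.aeval_C,
                  show algebraMap ℤ (MvPolynomial (Fin 2) ℤ) s = C s from rfl,
                  show a * X 0 - Polynomial.aeval (X 1) (θ a) * C s =
                    (a - Polynomial.aeval (X 1) (θ a)) * C s + a * (X 0 - C s) by ring]
                exact add_mem (Ideal.mul_mem_right _ _ ha) (Ideal.mul_mem_left _ _ (Ideal.subset_span rfl))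
              · show a * X 1 - _ * Polynomial.aeval (X 1) (θ (X 1)) ∈ _
                rw [show θ (X 1) = Polynomial.X by simp [θ], Polynomial.aeval_X, ← sub_mul]
                exact Ideal.mul_mem_right _ _ ha
          have := this y
          rwa [hy, map_zero, sub_zero] at this
        refine hθ x ?_
        have h2 := congrArg θ hw
        rw [map_mul, map_mul, show θ (X 0 - C s) = 0 by simp [θ], mul_zero, eq_comm, mul_eq_zero] at h2
        refine h2.resolve_left ?_
        simp only [θ, map_sub, aeval_X, aeval_C, Matrix.cons_val_one, Matrix.cons_val_zero]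
        exact Polynomial.X_sub_C_ne_zero s
      · intro x hx
        refine Ideal.mul_mem_left _ _ (Ideal.span_le.2 ?_ hx)
        rintro y (rfl | rfl | rfl)
        · rw [SetLike.mem_coe, Ideal.mem_span_pair]
          refine ⟨X 1, C s, ?_⟩
          have : (C ((p : ℤ) ^ e) : MvPolynomial (Fin 2) ℤ) = C s * C s := by rw [← map_mul, ← _root_.sq, hA.sq]
          rw [rel, this]; ring
        · exact Ideal.mul_mem_left _ _ (Ideal.subset_span (Or.inl rfl))
        · exact Ideal.mul_mem_left _ _ (Ideal.subset_span (Or.inr rfl))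
      · intro x hx
        obtain ⟨a, b, rfl⟩ := Ideal.mem_span_pair.1 hx
        rw [show h * (a * (X 0 - C s) + b * (X 1 - C s)) = a * (h * (X 0 - C s)) + b * (h * (X 1 - C s)) by ring]
        exact add_mem (Ideal.mul_mem_left _ _ h0) (Ideal.mul_mem_left _ _ h1)
  · refine ⟨_, h * (X 0 - C s), X 0, fun hX => hpQ ?_, hr, fun x hx => ?_, ?_, ?_⟩
    · have hq : C ((p : ℤ) ^ e) ∈ Q := by
        have := Q.sub_mem (Ideal.mul_mem_right (X 1) _ hX) (hkerQ hf)
        rwa [rel, sub_sub_cancel] at this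
      rw [map_pow] at hq
      exact Ideal.IsPrime.mem_of_pow_mem inferInstance e hq
    · rw [mul_assoc] at hx
      have h' := hg _ hx
      rw [← ker_Φ hA.q_ne, map_mul, mul_eq_zero] at h'
      rw [← ker_Φ hA.q_ne]
      exact h'.resolve_left hA.Φ_X_sub_ne
    · intro x hx
      have hle : augI p e s h ≤ (Ideal.span {rel ((p : ℤ) ^ e), h * (X 0 - C s)}).colon {X 0} := by
        rw [Ideal.span_le]
        rintro y (rfl | rfl | rfl) <;> rw [SetLike.mem_coe, Submodule.mem_colon_singleton, smul_eq_mul]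
        · exact Ideal.mul_mem_right _ _ (Ideal.subset_span (Or.inl rfl))
        · exact Ideal.mul_mem_right _ _ (Ideal.subset_span (Or.inr rfl))
        · rw [Ideal.mem_span_pair]
          refine ⟨h, -C s, ?_⟩
          have : (C ((p : ℤ) ^ e) : MvPolynomial (Fin 2) ℤ) = C s * C s := by rw [← map_mul, ← _root_.sq, hA.sq]
          rw [rel, this]; ring
      have := Submodule.mem_colon_singleton.1 (hle hx)
      rwa [smul_eq_mul, mul_comm x (X 0)] at this
    · intro x hx
      refine Ideal.mul_mem_left _ _ (Ideal.span_le.2 ?_ hx)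
      rintro y (rfl | rfl)
      · exact hf
      · exact h0

/-- The two socle elements at the origin. -/
theorem false_of_gorenstein_artinian {B : Type u} [CommRing B] [IsArtinianRing B]
    (hB : LocCoh.IsGorensteinRing B) (ρ : MvPolynomial (Fin 2) ℤ →+* B) (hρ : Function.Surjective ρ)
    (hkρ : RingHom.ker ρ = augI p e s h ⊔ Ideal.span {C (p : ℤ)})
    (hp : (p : ℤ) ∣ MvPolynomial.aeval ![(0 : ℤ), 0] h) (hD : 0 < D) : False := by
  classical
  have := Fact.mk hA.fam.prime
  obtain ⟨k, hk⟩ := hA.p_dvd_s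
  obtain ⟨k', hk'⟩ := hA.p_dvd_q
  obtain ⟨k₀, hk₀⟩ := hp
  set h00 := MvPolynomial.aeval ![(0 : ℤ), 0] h with hh00
  let θ1 : MvPolynomial (Fin 2) ℤ →ₐ[ℤ] Polynomial ℤ := MvPolynomial.aeval ![Polynomial.X, 0]
  let θ2 : MvPolynomial (Fin 2) ℤ →ₐ[ℤ] Polynomial ℤ := MvPolynomial.aeval ![0, Polynomial.X]
  let x := Polynomial.aeval (X 0 : MvPolynomial (Fin 2) ℤ) (θ1 h)
  let y := Polynomial.aeval (X 1 : MvPolynomial (Fin 2) ℤ) (θ2 h)
  -- mixed monomials vanish
  have hXY : ρ (X 0) * ρ (X 1) = 0 := by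
    rw [← map_mul, ← RingHom.mem_ker, hkρ, show X 0 * X 1 = rel ((p : ℤ) ^ e) + C k' * C (p : ℤ) by
      rw [rel, ← map_mul, mul_comm k', ← hk', sub_add_cancel]]
    exact Submodule.add_mem_sup (Ideal.subset_span (Or.inl rfl)) (Ideal.mul_mem_left _ _ (Ideal.subset_span rfl))
  have hC : ∀ a : ℤ, (p : ℤ) ∣ a → ρ (C a) = 0 := fun a ⟨b, hb⟩ => by
    rw [← RingHom.mem_ker, hkρ, hb, map_mul]
    exact Submodule.mem_sup_right (Ideal.mul_mem_right _ _ (Ideal.subset_span rfl))
  have hsplit := split_axes ρ hXY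
  have hc1 : (θ1 h).coeff 0 = h00 := coeff_θ1 h
  have hc2 : (θ2 h).coeff 0 = h00 := coeff_θ2 h
  have hxy : ρ h = ρ x + ρ y := by
    have := hsplit h
    rwa [hC _ ⟨k₀, hk₀⟩, add_zero] at this
  have hkill : ∀ z : MvPolynomial (Fin 2) ℤ, z = X 0 ∨ z = X 1 → ρ z * ρ h = 0 := by
    intro z hz
    have hz' : ρ (h * (z - C s)) = 0 := by
      rw [← RingHom.mem_ker, hkρ]
      refine Submodule.mem_sup_left (Ideal.subset_span ?_)
      rcases hz with rfl | rfl <;> simp
    rw [map_mul, map_sub, hC s ⟨k, hk⟩, sub_zero] at hz'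
    rwa [mul_comm]
  have hy0 : ρ (X 0) * ρ y = 0 := by
    show ρ (X 0) * ρ (Polynomial.aeval (X 1) (θ2 h)) = 0
    rw [← Polynomial.divX_mul_X_add (θ2 h), map_add, map_mul, Polynomial.aeval_X, Polynomial.aeval_C, hc2,
      map_add, map_mul, show algebraMap ℤ (MvPolynomial (Fin 2) ℤ) h00 = C h00 from rfl,
      hC _ ⟨k₀, hk₀⟩, add_zero, mul_left_comm, hXY, mul_zero]
  have hx1 : ρ (X 1) * ρ x = 0 := by
    show ρ (X 1) * ρ (Polynomial.aeval (X 0) (θ1 h)) = 0
    rw [← Polynomial.divX_mul_X_add (θ1 h), map_add, map_mul, Polynomial.aeval_X, Polynomial.aeval_C, hc1,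
      map_add, map_mul, show algebraMap ℤ (MvPolynomial (Fin 2) ℤ) h00 = C h00 from rfl,
      hC _ ⟨k₀, hk₀⟩, add_zero, mul_left_comm, mul_comm (ρ (X 1)), hXY, mul_zero]
  have hx0 : ρ (X 0) * ρ x = 0 := by
    have := hkill _ (Or.inl rfl)
    rwa [hxy, mul_add, hy0, add_zero] at this
  have hy1 : ρ (X 1) * ρ y = 0 := by
    have := hkill _ (Or.inr rfl)
    rwa [hxy, mul_add, hx1, zero_add] at this
  -- the maximal ideal
  let χ : MvPolynomial (Fin 2) ℤ →+* ZMod p :=
    (Int.castRingHom (ZMod p)).comp (MvPolynomial.aeval ![(0 : ℤ), 0]).toRingHom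
  have hd : ∀ a : ℤ, (p : ℤ) ∣ a → (a : ZMod p) = 0 := fun a ha => (ZMod.intCast_zmod_eq_zero_iff_dvd a p).2 ha
  have hχ0 : ∀ z ∈ RingHom.ker ρ, χ z = 0 := by
    intro z hz
    rw [hkρ] at hz
    suffices hle : augI p e s h ⊔ Ideal.span {C (p : ℤ)} ≤ RingHom.ker χ from RingHom.mem_ker.1 (hle hz)
    refine sup_le ?_ ?_
    · rw [Ideal.span_le]
      rintro w (rfl | rfl | rfl) <;> rw [SetLike.mem_coe, RingHom.mem_ker]
      · simp [χ, rel, hd _ hA.p_dvd_q, hA.pos.ne']
      · simp [χ, hd s ⟨k, hk⟩]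
      · simp [χ, hd s ⟨k, hk⟩]
    · rw [Ideal.span_le, Set.singleton_subset_iff, SetLike.mem_coe, RingHom.mem_ker]
      simp [χ]
  let χ' : B →+* ZMod p := RingHom.liftOfSurjective ρ hρ ⟨χ, fun z hz => RingHom.mem_ker.2 (hχ0 z hz)⟩
  have hχ' : ∀ z, χ' (ρ z) = χ z := fun z => RingHom.liftOfRightInverse_comp_apply _ _ _ _ z
  have hm : (RingHom.ker χ').IsMaximal :=
    RingHom.ker_isMaximal_of_surjective χ' fun a => ⟨ρ (C (a.val : ℤ)), by rw [hχ']; simp [χ]⟩
  have hann : ∀ z : B, ρ (X 0) * z = 0 → ρ (X 1) * z = 0 → ∀ b ∈ RingHom.ker χ', b * z = 0 := by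
    intro z h0 h1 b hb
    obtain ⟨g, rfl⟩ := hρ b
    rw [RingHom.mem_ker, hχ'] at hb
    have hg := sub_es_mem (s := 0) g
    simp only [map_zero, sub_zero] at hg
    obtain ⟨a, c, hac⟩ := Ideal.mem_span_pair.1 hg
    have hg0 : ρ (C (es (0 : ℤ) g)) = 0 := hC _ ((ZMod.intCast_zmod_eq_zero_iff_dvd _ p).1 hb)
    have h3 : ρ g = ρ a * ρ (X 0) + ρ c * ρ (X 1) := by
      rw [← map_mul, ← map_mul, ← map_add, hac, map_sub, hg0, sub_zero]
    rw [h3, add_mul, mul_assoc, mul_assoc, h0, h1, mul_zero, mul_zero, add_zero]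
  -- independence
  have hindep : ∀ i j : ℤ, ρ (C i * x + C j * y) = 0 → (p : ℤ) ∣ i ∧ (p : ℤ) ∣ j := by
    intro i j hij
    rw [← RingHom.mem_ker, hkρ] at hij
    let cst : Polynomial ℤ →+* Polynomial (ZMod p) := Polynomial.mapRingHom (Int.castRingHom (ZMod p))
    have hcC : ∀ a : ℤ, (p : ℤ) ∣ a → cst (Polynomial.C a) = 0  := fun a ha => by
      show Polynomial.map (Int.castRingHom (ZMod p)) (Polynomial.C a) = 0
      rw [Polynomial.map_C, eq_intCast, hd a ha, map_zero]
    have hne1 : cst (θ1 h) ≠ 0 := by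
      intro h0
      obtain ⟨w, hw⟩ := Ideal.mem_span_singleton'.1 hA.congr
      have h1 : cst (θ1 (w * rel ((p : ℤ) ^ e))) =
          cst (θ1 (X 0 ^ D * h - Polynomial.aeval (X 0) (Pw π))) := by rw [hw]
      have hrel : cst (θ1 (rel ((p : ℤ) ^ e))) = 0 := by simp [θ1, rel, cst, hA.pos.ne']
      rw [map_mul, map_mul, hrel, mul_zero] at h1
      simp only [map_mul, map_sub, map_pow, h0, mul_zero, zero_sub] at h1
      rw [← Polynomial.aeval_algHom_apply] at h1
      simp only [θ1, aeval_X, Matrix.cons_val_zero, Polynomial.aeval_X_left_apply] at h1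
      exact ((monic_Pw hA.fam).map (Int.castRingHom (ZMod p))).ne_zero (neg_eq_zero.1 h1.symm)
    have hne2 : cst (θ2 h) ≠ 0 := by
      intro h0
      obtain ⟨c, -, hcD, hc⟩ := exists_window hA.fam hA.inj hA.deg
      have hdiff : (∑ j ∈ Finset.Icc (-(D : ℤ)) D, c j • nfm j) - h ∈ Ideal.span {rel ((p : ℤ) ^ e)} := by
        refine X0_pow_cancel hA.q_ne (k := D) ?_
        have := Submodule.sub_mem _ hc hA.congr
        rwa [sub_sub_sub_cancel_right, ← mul_sub] at this
      obtain ⟨w, hw⟩ := Ideal.mem_span_singleton'.1 hdiff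
      have h1 : (cst (θ2 (w * rel ((p : ℤ) ^ e)))).coeff D =
          (cst (θ2 ((∑ j ∈ Finset.Icc (-(D : ℤ)) D, c j • nfm j) - h))).coeff D := by rw [hw]
      have hrel : cst (θ2 (rel ((p : ℤ) ^ e))) = 0 := by simp [θ2, rel, cst, hA.pos.ne']
      rw [map_mul, map_mul, hrel, mul_zero] at h1
      simp only [map_sub, h0, sub_zero, map_sum, map_zsmul, Polynomial.finsetSum_coeff,
        Polynomial.coeff_smul, Polynomial.coeff_zero] at h1
      rw [Finset.sum_eq_single (-(D : ℤ))] at h1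
      · simp [nfm, θ2, cst, show ¬ (0 : ℤ) ≤ -(D : ℤ) by omega] at h1
        rw [if_neg hD.ne'] at h1
        rcases Int.isUnit_iff.1 hcD with hu | hu <;> simp [hu] at h1
      · intro j hj hne
        rw [Finset.mem_Icc] at hj
        by_cases hj0 : 0 ≤ j
        · rw [nfm, if_pos hj0]
          rcases Nat.eq_zero_or_pos j.toNat with h' | h'
          · simp [h', θ2, cst, Polynomial.coeff_one, show D ≠ 0 by omega]
          · simp [θ2, cst, zero_pow h'.ne']
        · rw [nfm, if_neg hj0]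
          simp [θ2, cst, Polynomial.coeff_X_pow, show D ≠ (-j).toNat by omega]
      · intro h'; exact absurd (Finset.mem_Icc.2 ⟨le_rfl, by omega⟩) h'
    have main : ∀ (θ : MvPolynomial (Fin 2) ℤ →ₐ[ℤ] Polynomial ℤ) (H : Polynomial (ZMod p)) (a : ℤ),
        cst (θ (rel ((p : ℤ) ^ e))) = 0 → cst (θ h) = H → H ≠ 0 →
        cst (θ (C i * x + C j * y)) = Polynomial.C (a : ZMod p) * H →
        (cst (θ (X 0)) = Polynomial.X ∨ cst (θ (X 0)) = 0) →
        (cst (θ (X 1)) = Polynomial.X ∨ cst (θ (X 1)) = 0) → (p : ℤ) ∣ a := by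
      intro θ H a hr hH hne hxy' hX0 hX1
      have hCp : ∀ a : ℤ, (p : ℤ) ∣ a → cst (θ (C a)) = 0 := fun a ha => by
        rw [show θ (C a) = Polynomial.C a from θ.commutes a]; exact hcC a ha
      have hle : augI p e s h ⊔ Ideal.span {C (p : ℤ)} ≤
          (Ideal.span {Polynomial.X * H}).comap (cst.comp θ.toRingHom) := by
        refine sup_le (Ideal.span_le.2 ?_) (Ideal.span_le.2 ?_)
        · rintro w (rfl | rfl | rfl) <;> rw [SetLike.mem_coe, Ideal.mem_comap] <;>
            show cst (θ _) ∈ _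
          · rw [hr]; exact zero_mem _
          · rw [map_mul, map_mul, hH, map_sub, map_sub, hCp s ⟨k, hk⟩, sub_zero]
            rcases hX0 with h' | h' <;> rw [h']
            · rw [mul_comm]; exact Ideal.mem_span_singleton_self _
            · rw [mul_zero]; exact zero_mem _
          · rw [map_mul, map_mul, hH, map_sub, map_sub, hCp s ⟨k, hk⟩, sub_zero]
            rcases hX1 with h' | h' <;> rw [h']
            · rw [mul_comm]; exact Ideal.mem_span_singleton_self _
            · rw [mul_zero]; exact zero_mem _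
        · rw [Set.singleton_subset_iff, SetLike.mem_coe, Ideal.mem_comap]
          show cst (θ _) ∈ _
          rw [hCp _ dvd_rfl]; exact zero_mem _
      have := hle hij
      rw [Ideal.mem_comap] at this
      change cst (θ _) ∈ _ at this
      rw [hxy', Ideal.mem_span_singleton] at this
      have h2 : Polynomial.X ∣ Polynomial.C (a : ZMod p) := (mul_dvd_mul_iff_right hne).1 this
      rw [Polynomial.X_dvd_iff, Polynomial.coeff_C_zero] at h2
      exact (ZMod.intCast_zmod_eq_zero_iff_dvd a p).1 h2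
    have e1x : θ1 x = θ1 h := by
      show θ1 (Polynomial.aeval (X 0) (θ1 h)) = θ1 h
      rw [← Polynomial.aeval_algHom_apply, show θ1 (X 0) = Polynomial.X by simp [θ1], Polynomial.aeval_X_left_apply]
    have e1y : θ1 y = Polynomial.C h00 := by
      show θ1 (Polynomial.aeval (X 1) (θ2 h)) = _
      rw [← Polynomial.aeval_algHom_apply, show θ1 (X 1) = 0 by simp [θ1], ← Polynomial.coeff_zero_eq_aeval_zero', hc2]
      rfl
    have e2x : θ2 x = Polynomial.C h00 := by
      show θ2 (Polynomial.aeval (X 0) (θ1 h)) = _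
      rw [← Polynomial.aeval_algHom_apply, show θ2 (X 0) = 0 by simp [θ2], ← Polynomial.coeff_zero_eq_aeval_zero', hc1]
      rfl
    have e2y : θ2 y = θ2 h := by
      show θ2 (Polynomial.aeval (X 1) (θ2 h)) = θ2 h
      rw [← Polynomial.aeval_algHom_apply, show θ2 (X 1) = Polynomial.X by simp [θ2], Polynomial.aeval_X_left_apply]
    refine ⟨main θ1 _ i (by simp [θ1, rel, cst, hA.pos.ne']) rfl hne1 ?_
        (Or.inl (by simp [θ1, cst])) (Or.inr (by simp [θ1, cst])),
      main θ2 _ j (by simp [θ2, rel, cst, hA.pos.ne']) rfl hne2 ?_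
        (Or.inr (by simp [θ2, cst])) (Or.inl (by simp [θ2, cst]))⟩
    · simp only [map_add, map_mul, e1x, e1y, hcC _ ⟨k₀, hk₀⟩, mul_zero, add_zero]
      simp [θ1, cst]
    · simp only [map_add, map_mul, e2x, e2y, hcC _ ⟨k₀, hk₀⟩, mul_zero, zero_add]
      simp [θ2, cst]
  have hxne : ρ x ≠ 0 := fun h0 => by
    have := (hindep 1 0 (by simp [h0])).1
    exact hA.fam.prime.not_dvd_one (by exact_mod_cast this)
  obtain ⟨t, r, ht, htr⟩ := socle_dependent hB (RingHom.ker χ') hxne (hann _ hx0 hx1) (hann _ hy0 hy1)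
  -- reduce the scalars to integers
  have hscal : ∀ (z : B), ρ (X 0) * z = 0 → ρ (X 1) * z = 0 → ∀ b : B,
      b * z = ρ (C ((χ' b).val : ℤ)) * z := by
    intro z h0 h1 b
    rw [← sub_eq_zero, ← sub_mul]
    refine hann z h0 h1 _ ?_
    rw [RingHom.mem_ker, map_sub, hχ']
    simp [χ]
  have := hindep (-((χ' r).val : ℤ)) ((χ' t).val : ℤ) (by
    rw [map_add, map_mul, map_mul, map_neg, map_neg, neg_mul, ← hscal _ hx0 hx1, ← hscal _ hy0 hy1, htr,
      neg_add_cancel])
  refine ht (RingHom.mem_ker.2 ?_)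
  have h3 := (ZMod.natCast_eq_zero_iff _ p).2 (Int.natCast_dvd_natCast.1 this.2) 
  rwa [ZMod.natCast_val, ZMod.cast_id] at h3

/-- `R` is not Gorenstein when `p` divides `h(0, 0)` (and the family is nonempty). -/
theorem not_gorenstein_of_dvd (hp : (p : ℤ) ∣ MvPolynomial.aeval ![(0 : ℤ), 0] h) (hD : 0 < D)
    (hG : LocCoh.IsGorensteinRing (evs p e π s).range) : False := by
  classical
  have := Fact.mk hA.fam.prime
  set R := (evs p e π s).range
  let φ : MvPolynomial (Fin 2) ℤ →+* R := (evs p e π s).rangeRestrict.toRingHom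
  have hφ : Function.Surjective φ := (evs p e π s).rangeRestrict_surjective
  have : Module.Finite ℤ R := hA.finite_range
  have hreg : IsSMulRegular R ((p : ℤ) : R) := by
    intro a b hab
    simp only [smul_eq_mul] at hab
    have h' : (((p : ℤ) : R) : ((i : ι) → K i) × ℚ) * a = (((p : ℤ) : R) : ((i : ι) → K i) × ℚ) * b :=
      congrArg Subtype.val hab
    refine Subtype.ext (Prod.ext (funext fun i => ?_) ?_)
    · have := congrFun (congrArg Prod.fst h') i
      simpa [hA.fam.prime.ne_zero] using this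
    · have := congrArg Prod.snd h'
      simpa [hA.fam.prime.ne_zero] using this
  have hB := Gor.Ring.isGorensteinRing_quotient hG hreg
  let B := R ⧸ Ideal.span {((p : ℤ) : R)}
  let ρ : MvPolynomial (Fin 2) ℤ →+* B := (Ideal.Quotient.mk _).comp φ
  have hρ : Function.Surjective ρ := Ideal.Quotient.mk_surjective.comp hφ
  have hkρ : RingHom.ker ρ = augI p e s h ⊔ Ideal.span {C (p : ℤ)} := by
    rw [← RingHom.comap_ker, Ideal.mk_ker, ← hA.ker_res,
      show Ideal.span {((p : ℤ) : R)} = (Ideal.span {C (p : ℤ)}).map φ by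
        rw [Ideal.map_span, Set.image_singleton, eq_intCast MvPolynomial.C, map_intCast],
      Ideal.comap_map_of_surjective _ hφ, sup_comm]
    rfl
  have hfin : Finite B := by
    have : Module.Finite ℤ B := Module.Finite.of_surjective
      (Ideal.Quotient.mk (Ideal.span {((p : ℤ) : R)})).toIntAlgHom.toLinearMap Ideal.Quotient.mk_surjective
    refine Module.finite_of_fg_torsion B fun x => ⟨⟨(p : ℤ), mem_nonZeroDivisors_of_ne_zero
      (by exact_mod_cast hA.fam.prime.ne_zero)⟩, ?_⟩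
    show (p : ℤ) • x = 0
    rw [zsmul_eq_mul, show ((p : ℤ) : B) = Ideal.Quotient.mk _ ((p : ℤ) : R) from (map_intCast _ _).symm,
      Ideal.Quotient.eq_zero_iff_mem.2 (Ideal.mem_span_singleton_self _), zero_mul]
  have : IsArtinianRing B := isArtinian_of_finite
  exact hA.false_of_gorenstein_artinian hB ρ hρ hkρ hp hD

end Aug

end Groth.Agent.WeilNum84
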