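import Mathlib

/-! `ℤ[F, V]` modulo `FV - q`: the embedding in Laurent polynomials and normal forms. -/

set_option autoImplicit false

open MvPolynomial

namespace Groth.Agent.WeilNum84

/-- `FV - q`. -/
noncomputable abbrev rel (q : ℤ) : MvPolynomial (Fin 2) ℤ := X 0 * X 1 - C q

/-- `F ↦ T`, `V ↦ q T⁻¹`. -/
noncomputable def Φ (q : ℤ) : MvPolynomial (Fin 2) ℤ →ₐ[ℤ] LaurentPolynomial ℤ :=
  aeval ![LaurentPolynomial.T 1, LaurentPolynomial.C q * LaurentPolynomial.T (-1)]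

/-- The normal monomials `F^m` (`m ≥ 0`) and `V^(-m)` (`m < 0`). -/
noncomputable def nfm (m : ℤ) : MvPolynomial (Fin 2) ℤ :=
  if 0 ≤ m then X 0 ^ m.toNat else X 1 ^ (-m).toNat

/-- The scalar of a normal monomial. -/
def sc (q m : ℤ) : ℤ := q ^ (-m).toNat

theorem sc_ne_zero {q : ℤ} (hq : q ≠ 0) (m : ℤ) : sc q m ≠ 0 := pow_ne_zero _ hq

theorem Φ_nfm (q m : ℤ) : Φ q (nfm m) = LaurentPolynomial.C (sc q m) * LaurentPolynomial.T m := by
  unfold nfm sc Φ
  split_ifs with h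
  · rw [map_pow, aeval_X, Matrix.cons_val_zero, LaurentPolynomial.T_pow,
      show (-m).toNat = 0 by omega, pow_zero, map_one, one_mul, mul_one, Int.toNat_of_nonneg h]
  · rw [map_pow, aeval_X, Matrix.cons_val_one, Matrix.cons_val_zero, mul_pow, LaurentPolynomial.T_pow,
      map_pow, Int.toNat_of_nonneg (by omega : (0 : ℤ) ≤ -m), mul_neg, mul_one, neg_neg]

theorem Φ_rel (q : ℤ) : Φ q (rel q) = 0 := by
  simp only [Φ, rel, map_sub, map_mul, aeval_X, Matrix.cons_val_zero, Matrix.cons_val_one,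
    MvPolynomial.aeval_C]
  rw [mul_left_comm, ← LaurentPolynomial.T_add, add_neg_cancel, LaurentPolynomial.T_zero, mul_one,
    ← LaurentPolynomial.C_eq_algebraMap, sub_self]

section span

variable {R : Type*} [CommRing R] (φ : MvPolynomial (Fin 2) ℤ →+* R) {q : ℤ}

theorem F_mul_nfm (hφ : φ (rel q) = 0) (m : ℤ) :
    φ (X 0) * φ (nfm m) = (if 0 ≤ m then 1 else q) • φ (nfm (m + 1)) := by
  have h : φ (X 0) * φ (X 1) = (q : R) := by
    rw [rel, map_sub, map_mul, sub_eq_zero] at hφ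
    rw [hφ]; simp
  unfold nfm
  by_cases hm : 0 ≤ m
  · rw [if_pos hm, if_pos hm, if_pos (by omega), one_smul, ← map_mul, ← pow_succ']
    congr 2
    omega
  · rw [if_neg hm, if_neg hm, map_pow, show (-m).toNat = (-(m + 1)).toNat + 1 by omega, pow_succ',
      ← mul_assoc, h, zsmul_eq_mul]
    congr 1
    by_cases h1 : 0 ≤ m + 1
    · rw [if_pos h1, map_pow, show (m + 1).toNat = 0 by omega, show (-(m + 1)).toNat = 0 by omega,
        pow_zero, pow_zero]
    · rw [if_neg h1, map_pow]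

theorem V_mul_nfm (hφ : φ (rel q) = 0) (m : ℤ) :
    φ (X 1) * φ (nfm m) = (if m ≤ 0 then 1 else q) • φ (nfm (m - 1)) := by
  have h : φ (X 1) * φ (X 0) = (q : R) := by
    rw [rel, map_sub, map_mul, sub_eq_zero] at hφ
    rw [mul_comm, hφ]; simp
  unfold nfm
  by_cases hm : m ≤ 0
  · rw [if_pos hm, one_smul, if_neg (show ¬ 0 ≤ m - 1 by omega), map_pow φ (X 1),
      show (-(m - 1)).toNat = (-m).toNat + 1 by omega, pow_succ']
    congr 1
    by_cases h0 : 0 ≤ m
    · rw [if_pos h0, show m.toNat = 0 by omega, show (-m).toNat = 0 by omega]; simp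
    · rw [if_neg h0, map_pow]
  · rw [if_neg hm, if_pos (show 0 ≤ m by omega), if_pos (show 0 ≤ m - 1 by omega), map_pow, map_pow,
      show m.toNat = (m - 1).toNat + 1 by omega, pow_succ', ← mul_assoc, h, zsmul_eq_mul]

theorem F_pow_mul_nfm (hφ : φ (rel q) = 0) (k : ℕ) (m : ℤ) :
    ∃ a : ℤ, φ (X 0) ^ k * φ (nfm m) = a • φ (nfm (m + k)) ∧ (0 ≤ m → a = 1) := by
  induction k with
  | zero => exact ⟨1, by simp, fun _ => rfl⟩
  | succ k ih =>
    obtain ⟨a, ha, ha1⟩ := ih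
    refine ⟨a * if 0 ≤ m + k then 1 else q, ?_, fun h => by rw [ha1 h, if_pos (by omega), one_mul]⟩
    rw [pow_succ', mul_assoc, ha, mul_smul_comm, F_mul_nfm φ hφ, smul_smul, Nat.cast_succ, ← add_assoc]

theorem V_pow_mul_nfm (hφ : φ (rel q) = 0) (k : ℕ) (m : ℤ) :
    ∃ a : ℤ, φ (X 1) ^ k * φ (nfm m) = a • φ (nfm (m - k)) ∧ (m ≤ 0 → a = 1) := by
  induction k with
  | zero => exact ⟨1, by simp, fun _ => rfl⟩
  | succ k ih =>
    obtain ⟨a, ha, ha1⟩ := ih
    refine ⟨a * if m - k ≤ 0 then 1 else q, ?_, fun h => by rw [ha1 h, if_pos (by omega), one_mul]⟩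
    rw [pow_succ', mul_assoc, ha, mul_smul_comm, V_mul_nfm φ hφ, smul_smul, Nat.cast_succ, sub_sub]

theorem map_mem_span (hφ : φ (rel q) = 0) (g : MvPolynomial (Fin 2) ℤ) :
    φ g ∈ Submodule.span ℤ (Set.range fun m => φ (nfm m)) := by
  induction g using MvPolynomial.induction_on with
  | C a =>
    have : φ (C a) = a • φ (nfm 0) := by simp [nfm]
    rw [this]
    exact Submodule.smul_mem _ _ (Submodule.subset_span ⟨0, rfl⟩)
  | add p r hp hr => rw [map_add]; exact add_mem hp hr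
  | mul_X p i hp =>
    rw [map_mul, mul_comm]
    have key : (Submodule.span ℤ (Set.range fun m => φ (nfm m))).map (LinearMap.mulLeft ℤ (φ (X i))) ≤
        Submodule.span ℤ (Set.range fun m => φ (nfm m)) := by
      rw [Submodule.map_span, Submodule.span_le]
      rintro _ ⟨_, ⟨m, rfl⟩, rfl⟩
      show φ (X i) * φ (nfm m) ∈ _
      fin_cases i
      · show φ (X 0) * φ (nfm m) ∈ _
        rw [F_mul_nfm φ hφ]; exact Submodule.smul_mem _ _ (Submodule.subset_span ⟨_, rfl⟩)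
      · show φ (X 1) * φ (nfm m) ∈ _
        rw [V_mul_nfm φ hφ]; exact Submodule.smul_mem _ _ (Submodule.subset_span ⟨_, rfl⟩)
    exact key ⟨_, hp, rfl⟩

/-- With a relation monic at both ends, the window `[-D, D)` spans. -/
theorem map_mem_window (hφ : φ (rel q) = 0) (D : ℕ) (c : ℤ → ℤ) (hcD : c D = 1)
    (hcD' : IsUnit (c (-D))) (hc : ∑ j ∈ Finset.Icc (-(D : ℤ)) D, c j • φ (nfm j) = 0)
    (g : MvPolynomial (Fin 2) ℤ) :
    φ g ∈ Submodule.span ℤ ((fun m => φ (nfm m)) '' Set.Ico (-(D : ℤ)) D) := by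
  set M := Submodule.span ℤ ((fun m => φ (nfm m)) '' Set.Ico (-(D : ℤ)) D) with hM
  have hwin : ∀ m : ℤ, -(D : ℤ) ≤ m → m < D → φ (nfm m) ∈ M := fun m h1 h2 =>
    Submodule.subset_span ⟨m, ⟨h1, h2⟩, rfl⟩
  have up : ∀ k : ℕ, φ (nfm (D + k)) ∈ M := by
    intro k
    induction k using Nat.strong_induction_on with
    | _ k ih =>
      have h0 : ∑ j ∈ Finset.Icc (-(D : ℤ)) D, c j • (φ (X 0) ^ k * φ (nfm j)) = 0 := by
        simp only [← mul_smul_comm, ← Finset.mul_sum, hc, mul_zero]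
      rw [← Finset.add_sum_erase _ _ (Finset.mem_Icc.2 ⟨by omega, le_rfl⟩ : (D : ℤ) ∈ Finset.Icc (-(D : ℤ)) D),
        hcD, one_smul] at h0
      obtain ⟨a, ha, ha1⟩ := F_pow_mul_nfm φ hφ k D
      rw [ha, ha1 (by omega), one_smul, add_eq_zero_iff_eq_neg] at h0
      rw [h0]
      refine neg_mem (sum_mem fun j hj => Submodule.smul_mem _ _ ?_)
      simp only [Finset.mem_erase, Finset.mem_Icc] at hj
      obtain ⟨b, hb, -⟩ := F_pow_mul_nfm φ hφ k j
      rw [hb]
      refine Submodule.smul_mem _ _ ?_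
      by_cases h : j + k < D
      · exact hwin _ (by omega) h
      · rw [show j + k = (D : ℤ) + ((j + k - D).toNat : ℕ) by omega]
        exact ih _ (by omega)
  have down : ∀ k : ℕ, φ (nfm (-(D : ℤ) - (k + 1 : ℕ))) ∈ M := by
    intro k
    induction k using Nat.strong_induction_on with
    | _ k ih =>
      have h0 : ∑ j ∈ Finset.Icc (-(D : ℤ)) D, c j • (φ (X 1) ^ (k + 1) * φ (nfm j)) = 0 := by
        simp only [← mul_smul_comm, ← Finset.mul_sum, hc, mul_zero]
      rw [← Finset.add_sum_erase _ _ (Finset.mem_Icc.2 ⟨le_rfl, by omega⟩ : -(D : ℤ) ∈ Finset.Icc (-(D : ℤ)) D)]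
        at h0
      obtain ⟨a, ha, ha1⟩ := V_pow_mul_nfm φ hφ (k + 1) (-(D : ℤ))
      rw [ha, ha1 (by omega), one_smul, add_eq_zero_iff_eq_neg] at h0
      have hmem : c (-(D : ℤ)) • φ (nfm (-(D : ℤ) - (k + 1 : ℕ))) ∈ M := by
        rw [h0]
        refine neg_mem (sum_mem fun j hj => Submodule.smul_mem _ _ ?_)
        simp only [Finset.mem_erase, Finset.mem_Icc] at hj
        obtain ⟨b, hb, -⟩ := V_pow_mul_nfm φ hφ (k + 1) j
        rw [hb]
        refine Submodule.smul_mem _ _ ?_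
        by_cases h : -(D : ℤ) ≤ j - (k + 1 : ℕ)
        · exact hwin _ h (by omega)
        · rw [show j - ((k + 1 : ℕ) : ℤ) = -(D : ℤ) - (((-(D : ℤ) - (j - (k + 1 : ℕ))).toNat - 1 + 1 : ℕ) : ℤ) by omega]
          exact ih _ (by omega)
      rcases Int.isUnit_iff.1 hcD' with hu | hu <;> rw [hu] at hmem
      · simpa using hmem
      · simpa using hmem
  refine (Submodule.span_le.2 ?_) (map_mem_span φ hφ g)
  rintro _ ⟨m, rfl⟩
  rcases lt_or_ge m (-(D : ℤ)) with h | h
  · have := down ((-(D : ℤ) - m).toNat - 1)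
    rwa [show -(D : ℤ) - (((-(D : ℤ) - m).toNat - 1 + 1 : ℕ) : ℤ) = m by omega] at this
  · rcases lt_or_ge m (D : ℤ) with h' | h'
    · exact hwin m h h'
    · have := up (m - D).toNat
      rwa [show (D : ℤ) + ((m - D).toNat : ℕ) = m by omega] at this

end span

theorem coeff_Φ_sum {q : ℤ} (s : Finset ℤ) (c : ℤ → ℤ) (j : ℤ) :
    (Φ q (∑ m ∈ s, c m • nfm m)).coeff j = if j ∈ s then c j * sc q j else 0 := by
  classical
  have h1 : Φ q (∑ m ∈ s, c m • nfm m) = ∑ m ∈ s, AddMonoidAlgebra.single m (c m * sc q m) := by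
    rw [map_sum]
    refine Finset.sum_congr rfl fun m _ => ?_
    rw [map_zsmul, Φ_nfm, LaurentPolynomial.single_eq_C_mul_T, map_mul, mul_assoc, zsmul_eq_mul,
      LaurentPolynomial.C_eq_algebraMap]
    simp
  rw [h1, AddMonoidAlgebra.coeff_sum, Finsupp.finsetSum_apply]
  simp only [AddMonoidAlgebra.coeff_single, Finsupp.single_apply, Finset.sum_ite_eq']

/-- Every polynomial has a normal form modulo `FV - q`. -/
theorem exists_normal_form {q : ℤ} (g : MvPolynomial (Fin 2) ℤ) :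
    ∃ c : ℤ →₀ ℤ, g - c.sum (fun m a => a • nfm m) ∈ Ideal.span {rel q} := by
  have h := map_mem_span (Ideal.Quotient.mk (Ideal.span {rel q}))
    (Ideal.Quotient.eq_zero_iff_mem.2 (Ideal.subset_span rfl)) g
  obtain ⟨c, hc⟩ := Finsupp.mem_span_range_iff_exists_finsupp.1 h
  refine ⟨c, ?_⟩
  rw [← Ideal.Quotient.eq_zero_iff_mem, map_sub, sub_eq_zero, ← hc]
  simp [Finsupp.sum, map_sum]

theorem ker_Φ {q : ℤ} (hq : q ≠ 0) (g : MvPolynomial (Fin 2) ℤ) :
    Φ q g = 0 ↔ g ∈ Ideal.span {rel q} := by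
  constructor
  · intro h
    obtain ⟨c, hc⟩ := exists_normal_form (q := q) g
    have h0 : Φ q (c.sum fun m a => a • nfm m) = 0 := by
      obtain ⟨w, hw⟩ := Ideal.mem_span_singleton'.1 hc
      have := congrArg (Φ q) hw
      rw [map_mul, Φ_rel, mul_zero, map_sub, h, zero_sub, eq_comm, neg_eq_zero] at this
      exact this
    have hc0 : c = 0 := by
      ext j
      have := congrArg (fun f : LaurentPolynomial ℤ => f.coeff j) h0
      simp only [Finsupp.sum, coeff_Φ_sum, Finsupp.mem_support_iff, AddMonoidAlgebra.coeff_zero,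
        Finsupp.coe_zero, Pi.zero_apply] at this
      show c j = 0
      by_contra hj
      rw [if_pos hj] at this
      exact hj ((mul_eq_zero.1 this).resolve_right (sc_ne_zero hq j))
    simpa [hc0] using hc
  · intro h
    obtain ⟨w, rfl⟩ := Ideal.mem_span_singleton'.1 h
    rw [map_mul, Φ_rel, mul_zero]

end Groth.Agent.WeilNum84
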